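import Cfsg.Agent.SuzThree.CentB

/-!
A normal 2-subgroup of the centraliser of the involution `a` in the presented Suzuki group.
-/

set_option autoImplicit false
set_option maxRecDepth 100000
set_option exponentiation.threshold 4000

namespace Cfsg.Agent.SuzThree.QZero

open Cfsg.Spor Cfsg.Agent.Lib.PermNet Cfsg.Agent.Lib.PermNetOrbit Cfsg.Agent.SporadicRecognition.SuzPhi
  Cfsg.Agent.SporadicRecognition.SuzBound Cfsg.Agent.SporadicRecognition.SuzOrder
  Cfsg.Agent.SuzThree.Nets Cfsg.Agent.SuzThree.Basic Cfsg.Agent.SuzThree.Elts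
  Cfsg.Agent.SuzThree.Elementary Cfsg.Agent.SuzThree.CentA Cfsg.Agent.SuzThree.CentB

/-- Elements of order 2 commuting up to a central element generate a 2-group. -/
theorem isPGroup_closure {G : Type*} [Group G] (z : G) (hz : z * z = 1) (L : List G)
    (h2 : ∀ x ∈ L, x * x = 1) (hzc : ∀ x ∈ L, x * z = z * x)
    (hc : ∀ x ∈ L, ∀ y ∈ L, x * y = y * x ∨ x * y = z * (y * x)) :
    IsPGroup 2 (Subgroup.closure (insert z {x | x ∈ L})) := by
  induction L with
  | nil =>
    have : (insert z {x | x ∈ ([] : List G)} : Set G) = {z} := by ext; simp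
    rw [this, ← Subgroup.zpowers_eq_closure]
    intro ⟨g, hg⟩
    refine ⟨1, ?_⟩
    obtain ⟨k, rfl⟩ := Subgroup.mem_zpowers_iff.1 hg
    apply Subtype.ext
    show (z ^ k) ^ (2 ^ 1) = 1
    rw [pow_one, pow_two, ← zpow_add, ← two_mul, zpow_mul, zpow_two, hz, one_zpow]
  | cons x L ih =>
    have ih' := ih (fun y hy => h2 y (List.mem_cons_of_mem _ hy))
      (fun y hy => hzc y (List.mem_cons_of_mem _ hy))
      (fun y hy y' hy' => hc y (List.mem_cons_of_mem _ hy) y' (List.mem_cons_of_mem _ hy'))
    have hx := h2 x List.mem_cons_self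
    have hx1 : x⁻¹ = x := inv_eq_of_mul_eq_one_right hx
    set K := Subgroup.closure (insert z {x | x ∈ L}) with hK
    have hconj : K ≤ K.comap (MulAut.conj x).toMonoidHom := by
      rw [hK, Subgroup.closure_le]
      rintro y (rfl | hy)
      · show x * y * x⁻¹ ∈ K
        rw [hzc x List.mem_cons_self, mul_inv_cancel_right]
        exact Subgroup.subset_closure (Set.mem_insert _ _)
      · show x * y * x⁻¹ ∈ K
        rcases hc x List.mem_cons_self y (List.mem_cons_of_mem _ hy) with h | h
        · rw [h, mul_inv_cancel_right]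
          exact Subgroup.subset_closure (Set.mem_insert_of_mem _ hy)
        · rw [h, ← mul_assoc, mul_inv_cancel_right]
          exact K.mul_mem (Subgroup.subset_closure (Set.mem_insert _ _))
            (Subgroup.subset_closure (Set.mem_insert_of_mem _ hy))
    have hn : Subgroup.zpowers x ≤ Subgroup.normalizer (K : Set G) := by
      rw [Subgroup.zpowers_le]
      intro y
      constructor
      · intro hy; exact hconj hy
      · intro hy
        have h1 := hconj hy
        have h2 : x * (x * y * x⁻¹) * x⁻¹ = y := by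
          rw [hx1]
          calc x * (x * y * x) * x = (x * x) * y * (x * x) := by group
            _ = y := by rw [hx]; group
        have h3 : x * (x * y * x⁻¹) * x⁻¹ ∈ K := h1
        rw [h2] at h3
        exact h3
    have hp : IsPGroup 2 (Subgroup.zpowers x) := by
      intro ⟨g, hg⟩
      refine ⟨1, ?_⟩
      obtain ⟨k, rfl⟩ := Subgroup.mem_zpowers_iff.1 hg
      apply Subtype.ext
      show (x ^ k) ^ (2 ^ 1) = 1
      rw [pow_one, pow_two, ← zpow_add, ← two_mul, zpow_mul, zpow_two, hx, one_zpow]
    have h4 := hp.to_sup_of_normal_right' ih' hn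
    refine h4.to_le ?_
    rw [Subgroup.closure_le]
    rintro y (rfl | hy)
    · exact (le_sup_right : K ≤ _) (Subgroup.subset_closure (Set.mem_insert _ _))
    · rcases List.mem_cons.1 hy with rfl | hy
      · exact (le_sup_left : Subgroup.zpowers y ≤ _) (Subgroup.mem_zpowers y)
      · exact (le_sup_right : K ≤ _) (Subgroup.subset_closure (Set.mem_insert_of_mem _ hy))

/-- indices -/
inductive Qx : Type
  | k1 | k2 | k3 | k4 | k5 | k6
  deriving DecidableEq

/-- words of the generators -/
def qw : Qx → List Suz.Gen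
  | .k1 => [.c]
  | .k2 => [.d, .c, .d]
  | .k3 => [.e, .d, .c, .d, .e]
  | .k4 => [.f]
  | .k5 => [.g]
  | .k6 => [.b, .c, .d, .a, .b, .a, .b, .c, .d, .e, .b, .c, .d, .c, .b] ++ [.a] ++ [.b, .c, .d, .c, .b, .e, .d, .c, .b, .a, .b, .a, .d, .c, .b]

/-- the same as words of networks -/
noncomputable def qn : Qx → List Net
  | .k6 => [q6N]
  | i => wd (qw i)

theorem q6_ok : q6N.ok (2 ^ 11) = true := by decide +kernel

theorem qn_ok (i : Qx) : WOk (2 ^ 11) (qn i) := by
  cases i
  · exact wd_ok _
  · exact wd_ok _
  · exact wd_ok _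
  · exact wd_ok _
  · exact wd_ok _
  · exact WOk.cons q6_ok (WOk.nil _)

/-- the generators -/
noncomputable def q (i : Qx) : Suz := el (qw i)

theorem rep_q (i : Qx) : Rep (q i) (qn i) := by
  refine ⟨qn_ok i, ?_⟩
  cases i
  · exact φ_el _
  · exact φ_el _
  · exact φ_el _
  · exact φ_el _
  · exact φ_el _
  · show φ (q .k6) = wperm [q6N]
    rw [q, φ_el]
    exact wperm_eq_of_checkEq (wd_ok _) (qn_ok .k6) (by decide +kernel)

theorem rep_z : Rep z0 (wd [.a]) := Rep.el _

/-- the list of generators -/
def ql : List Qx := [.k1, .k2, .k3, .k4, .k5, .k6]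

theorem mem_ql (i : Qx) : i ∈ ql := by cases i <;> simp [ql]

/-- all entries of a list pass a test -/
noncomputable def allL {α : Type} (f : α → Bool) (l : List α) : Bool :=
  List.rec (motive := fun _ => Bool) true (fun a _ ih => and (f a) ih) l

theorem allL_spec {α : Type} {f : α → Bool} {l : List α} (h : allL f l = true) :
    ∀ a ∈ l, f a = true := by
  induction l with
  | nil => intro a ha; exact absurd ha (by simp)
  | cons b l ih =>
    have h' : and (f b) (allL f l) = true := h
    rw [Bool.and_eq_true] at h'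
    intro a ha
    rcases List.mem_cons.1 ha with rfl | ha
    · exact h'.1
    · exact ih h'.2 a ha

theorem q_sq (i : Qx) : q i * q i = 1 := by
  have h : allL (fun i => checkEq 11 (qn i ++ qn i) []) ql = true := by decide +kernel
  exact eq_of_reps ((rep_q i).mul (rep_q i)) Rep.one (allL_spec h i (mem_ql i))

theorem q_mem_C1 (i : Qx) : q i ∈ C1 := by
  have h : allL (fun i => checkEq 11 (qn i ++ wd [.a]) (wd [.a] ++ qn i)) ql = true := by
    decide +kernel
  rw [mem_C1]
  exact eq_of_reps ((rep_q i).mul rep_z) (rep_z.mul (rep_q i)) (allL_spec h i (mem_ql i))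

/-- do the generators commute -/
def cm : Qx → Qx → Bool
  | .k1, .k1 => true
  | .k1, .k2 => false
  | .k1, .k3 => false
  | .k1, .k4 => true
  | .k1, .k5 => true
  | .k1, .k6 => false
  | .k2, .k1 => false
  | .k2, .k2 => true
  | .k2, .k3 => false
  | .k2, .k4 => true
  | .k2, .k5 => true
  | .k2, .k6 => false
  | .k3, .k1 => false
  | .k3, .k2 => false
  | .k3, .k3 => true
  | .k3, .k4 => true
  | .k3, .k5 => true
  | .k3, .k6 => false
  | .k4, .k1 => true
  | .k4, .k2 => true
  | .k4, .k3 => true
  | .k4, .k4 => true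
  | .k4, .k5 => false
  | .k4, .k6 => true
  | .k5, .k1 => true
  | .k5, .k2 => true
  | .k5, .k3 => true
  | .k5, .k4 => false
  | .k5, .k5 => true
  | .k5, .k6 => true
  | .k6, .k1 => false
  | .k6, .k2 => false
  | .k6, .k3 => false
  | .k6, .k4 => true
  | .k6, .k5 => true
  | .k6, .k6 => true

theorem q_comm (i j : Qx) : q i * q j = q j * q i ∨ q i * q j = z0 * (q j * q i) := by
  have h : allL (fun i => allL (fun j => cond (cm i j) (checkEq 11 (qn i ++ qn j) (qn j ++ qn i))
      (checkEq 11 (qn i ++ qn j) (wd [.a] ++ (qn j ++ qn i)))) ql) ql = true := by decide +kernel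
  have h1 := allL_spec (allL_spec h i (mem_ql i)) j (mem_ql j)
  cases hc : cm i j
  · right
    rw [hc] at h1
    exact eq_of_reps ((rep_q i).mul (rep_q j)) (rep_z.mul ((rep_q j).mul (rep_q i))) h1
  · left
    rw [hc] at h1
    exact eq_of_reps ((rep_q i).mul (rep_q j)) ((rep_q j).mul (rep_q i)) h1

/-- the 2-group -/
noncomputable def Q0 : Subgroup Suz :=
  Subgroup.closure (insert z0 {x | x ∈ ql.map q})

theorem q_mem (i : Qx) : q i ∈ Q0 :=
  Subgroup.subset_closure (Set.mem_insert_of_mem _ (List.mem_map_of_mem (mem_ql i)))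

theorem z_mem : z0 ∈ Q0 := Subgroup.subset_closure (Set.mem_insert _ _)

theorem z_sq : z0 * z0 = 1 := gen_sq .a

theorem isPGroup_Q0 : IsPGroup 2 Q0 := by
  apply isPGroup_closure z0 z_sq
  · intro y hy
    obtain ⟨i, _, rfl⟩ := List.mem_map.1 hy
    exact q_sq i
  · intro y hy
    obtain ⟨i, _, rfl⟩ := List.mem_map.1 hy
    exact mem_C1.1 (q_mem_C1 i)
  · intro y hy y' hy'
    obtain ⟨i, _, rfl⟩ := List.mem_map.1 hy
    obtain ⟨j, _, rfl⟩ := List.mem_map.1 hy'
    exact q_comm i j

/-- product of generators and of powers of `z0` -/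
noncomputable def qp : List (Option Qx) → Suz
  | [] => 1
  | none :: l => z0 * qp l
  | some i :: l => q i * qp l

/-- the same in networks -/
noncomputable def qpn : List (Option Qx) → List Net
  | [] => []
  | none :: l => wd [.a] ++ qpn l
  | some i :: l => qn i ++ qpn l

theorem rep_qp (l : List (Option Qx)) : Rep (qp l) (qpn l) := by
  induction l with
  | nil => exact Rep.one
  | cons a l ih =>
    cases a with
    | none => exact rep_z.mul ih
    | some i => exact (rep_q i).mul ih

theorem qp_mem (l : List (Option Qx)) : qp l ∈ Q0 := by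
  induction l with
  | nil => exact Q0.one_mem
  | cons a l ih =>
    cases a with
    | none => exact Q0.mul_mem z_mem ih
    | some i => exact Q0.mul_mem (q_mem i) ih

/-- images of the generators under conjugation by a generator of the centraliser -/
def im0 : Qx → List (Option Qx)
  | .k1 => [some .k2]
  | .k2 => [some .k1]
  | .k3 => [some .k3]
  | .k4 => [some .k4]
  | .k5 => [some .k5]
  | .k6 => [some .k1, some .k2, some .k3, some .k6]

/-- images of the generators under conjugation by a generator of the centraliser -/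
def im1 : Qx → List (Option Qx)
  | .k1 => [some .k1]
  | .k2 => [some .k3]
  | .k3 => [some .k2]
  | .k4 => [some .k4]
  | .k5 => [some .k5]
  | .k6 => [some .k1, some .k2, some .k3, some .k6]

/-- images of the generators under conjugation by a generator of the centraliser -/
def im2 : Qx → List (Option Qx)
  | .k1 => [some .k1]
  | .k2 => [some .k2, some .k4, none]
  | .k3 => [some .k3, some .k4, none]
  | .k4 => [some .k4]
  | .k5 => [some .k1, some .k5, none]
  | .k6 => [some .k4, some .k6, none]

/-- images of the generators under conjugation by a generator of the centraliser -/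
def im3 : Qx → List (Option Qx)
  | .k1 => [some .k1]
  | .k2 => [some .k2, some .k5, none]
  | .k3 => [some .k3, some .k5, none]
  | .k4 => [some .k1, some .k4, none]
  | .k5 => [some .k5]
  | .k6 => [some .k5, some .k6, none]

/-- images of the generators under conjugation by a generator of the centraliser -/
def im4 : Qx → List (Option Qx)
  | .k1 => [some .k1, none]
  | .k2 => [some .k2, none]
  | .k3 => [some .k6, none]
  | .k4 => [some .k4]
  | .k5 => [some .k5]
  | .k6 => [some .k1, some .k2, some .k3, some .k6]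

theorem conj_aux {w : List Suz.Gen} {im : Qx → List (Option Qx)}
    (h : allL (fun i => checkEq 11 (wd w ++ qn i) (qpn (im i) ++ wd w)) ql = true) (i : Qx) :
    el w * q i * (el w)⁻¹ ∈ Q0 := by
  have h1 : el w * q i = qp (im i) * el w :=
    eq_of_reps ((Rep.el w).mul (rep_q i)) ((rep_qp _).mul (Rep.el w)) (allL_spec h i (mem_ql i))
  rw [h1, mul_inv_cancel_right]
  exact qp_mem _

theorem conj_q {w : List Suz.Gen} (hw : w ∈ ga) (i : Qx) : el w * q i * (el w)⁻¹ ∈ Q0 := by
  simp only [ga, List.mem_cons, List.not_mem_nil, or_false] at hw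
  rcases hw with rfl | rfl | rfl | rfl | rfl
  · exact conj_aux (im := im0) (by decide +kernel) i
  · exact conj_aux (im := im1) (by decide +kernel) i
  · exact conj_aux (im := im2) (by decide +kernel) i
  · exact conj_aux (im := im3) (by decide +kernel) i
  · exact conj_aux (im := im4) (by decide +kernel) i

theorem ga_mem_normalizer {w : List Suz.Gen} (hw : w ∈ ga) :
    el w ∈ Subgroup.normalizer (Q0 : Set Suz) := by
  have hle : Q0 ≤ Q0.comap (MulAut.conj (el w)).toMonoidHom := by
    conv_lhs => rw [Q0]
    rw [Subgroup.closure_le]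
    rintro y (rfl | hy)
    · show el w * z0 * (el w)⁻¹ ∈ Q0
      rw [mem_C1.1 (ga_le (el_mem_cl hw)), mul_inv_cancel_right]
      exact z_mem
    · obtain ⟨i, _, rfl⟩ := List.mem_map.1 hy
      exact conj_q hw i
  exact Subgroup.mem_normalizer_fintype (S := (Q0 : Set Suz)) (fun a ha => hle ha)

theorem cl_le_normalizer : cl ga ≤ Subgroup.normalizer (Q0 : Set Suz) :=
  cl_le fun _ hw => ga_mem_normalizer hw

theorem Q0_le : Q0 ≤ C1 := by
  rw [Q0, Subgroup.closure_le]
  rintro y (rfl | hy)
  · exact mem_C1.2 rfl
  · obtain ⟨i, _, rfl⟩ := List.mem_map.1 hy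
    exact q_mem_C1 i

end Cfsg.Agent.SuzThree.QZero
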