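import Cfsg.Agent.SuzThree.CentB
import Cfsg.Agent.SuzThree.QZero
import Cfsg.Agent.SporRec.SuzCl.Inv

/-!
The centraliser of the involution `a` in the presented Suzuki group has order 3317760 = 2^13 3^4 5, is generated
by the five words `ga` and normalises `Q0`.
-/

set_option autoImplicit false
set_option maxRecDepth 100000
set_option exponentiation.threshold 4000

namespace Cfsg.Agent.SuzThree.CentCard

open Cfsg.Spor Cfsg.Agent.Lib.PermNet Cfsg.Agent.Lib.PermNetOrbit Cfsg.Agent.SporadicRecognition.SuzPhi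
  Cfsg.Agent.SporadicRecognition.SuzBound Cfsg.Agent.SporadicRecognition.SuzOrder
  Cfsg.Agent.SuzThree.Nets Cfsg.Agent.SuzThree.Basic Cfsg.Agent.SuzThree.Elts
  Cfsg.Agent.SuzThree.Elementary Cfsg.Agent.SuzThree.CentA Cfsg.Agent.SuzThree.CentB
open Cfsg.Agent.SporRec.SuzCl (app tA wtr wtr_spec R_gen allP)

/-- generators of the stabiliser of 0 and 1575 -/
def ge : List (List Suz.Gen) := [[.a], [.b], [.c], [.d], [.e]]

theorem ge_fix {w : List Suz.Gen} (hw : w ∈ ge) : el w ∈ stabL φ [1575, 0] := by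
  intro q hq
  rw [φ_el]
  have h : fixAllB (ge.map wd) [1575, 0] = true := by decide +kernel
  exact fixAllB_spec (wsokS ge) h q hq _ (List.mem_map_of_mem hw)

/-- orbit of 1 under the stabiliser of 0 and 1575 -/
noncomputable def F3 : ℕ := sat (ge.map wd) 18 (Nat.pow 2 1)

theorem pcF3 : Nat.beq (pc 11 F3) 315 = true := by decide +kernel
theorem ltF3 : Nat.beq (Nat.shiftRight F3 (Nat.pow 2 11)) 0 = true := by decide +kernel

theorem cardF3 : (bits (2 ^ 11) F3).card = 315 := by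
  rw [← pc_eq 11 F3 (lt_of_chk ltF3)]; exact Nat.eq_of_beq_eq_true pcF3

theorem card_stab2 : Nat.card (stabL φ [1575, 0]) ≤ 604800 := by
  have h7 := step7
  have h6 := step6
  have h0 : Nat.card (stabL φ []) ≤ Nat.card Suz :=
    Nat.card_le_card_of_injective _ (Subtype.val_injective)
  rw [card_Suz] at h0
  omega

theorem mem_F3 {g : Suz} (hg : g ∈ stabL φ [1575, 0]) : F3.testBit (φ g 1) = true := by
  by_contra hc
  have hT : ∀ t ∈ insert (φ g 1) (bits (2 ^ 11) F3), ∃ h ∈ stabL φ [1575, 0], φ h 1 = t := by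
    intro t ht
    rcases Finset.mem_insert.1 ht with rfl | ht
    · exact ⟨g, hg, rfl⟩
    · obtain ⟨g', ⟨c, hc, rfl⟩, hg'⟩ := sat_point_spec (K := (stabL φ [1575, 0]).map φ) (wsokS ge)
        (fun w hw => by
          obtain ⟨u, hu, rfl⟩ := List.mem_map.1 hw
          exact ⟨el u, ge_fix hu, φ_el u⟩) 18 ((mem_bits.1 ht).2)
      exact ⟨c, hc, hg'⟩
  have h1 := stabL_step φ [1575, 0] 1 _ hT
  rw [Finset.card_insert_of_notMem (fun h => hc (mem_bits.1 h).2), cardF3, card_stab3_eq] at h1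
  have h2 := card_stab2
  omega

/-- the points different from 1 fixed by `a` in the orbit of 1, with words and witnesses -/
def L10 : List (ℕ × List Suz.Gen × ℕ × ℕ) := [
  (16, [.b, .c, .a, .b, .a, .b], 7, 7),
  (34, [.b, .a, .b, .c, .a, .b], 4, 4),
  (28, [.d, .b, .c, .a, .b, .a, .b], 7, 7),
  (49, [.d, .b, .a, .b, .c, .a, .b], 4, 4),
  (48, [.e, .d, .b, .c, .a, .b, .a, .b], 7, 7),
  (77, [.e, .d, .b, .a, .b, .c, .a, .b], 4, 4),
  (1123, [.b, .c, .d, .a, .b, .a, .b, .c, .d, .e, .b, .c, .d, .c, .b], 4, 4),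
  (1290, [.b, .c, .d, .a, .b, .a, .b, .c, .d, .e, .a, .b, .c, .d, .c, .b], 4, 4),
  (1298, [.d, .b, .c, .d, .a, .b, .a, .b, .c, .d, .e, .b, .c, .d, .c, .b], 4, 4),
  (1336, [.d, .b, .c, .d, .a, .b, .a, .b, .c, .d, .e, .a, .b, .c, .d, .c, .b], 4, 4)]

/-- the set of points -/
noncomputable def msk (l : List (ℕ × List Suz.Gen × ℕ × ℕ)) : ℕ :=
  List.rec (motive := fun _ => ℕ) (Nat.shiftLeft 1 1) (fun x _ ih => Nat.lor (Nat.shiftLeft 1 x.1) ih) l

theorem msk_spec {l : List (ℕ × List Suz.Gen × ℕ × ℕ)} {k : ℕ} (h : (msk l).testBit k = true) :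
    k = 1 ∨ ∃ x ∈ l, x.1 = k := by
  induction l with
  | nil =>
    left
    have h' : (1 <<< 1 : ℕ).testBit k = true := h
    rw [Nat.testBit_shiftLeft, Bool.and_eq_true, decide_eq_true_eq,
      Nat.testBit_one_eq_true_iff_self_eq_zero] at h'
    omega
  | cons y l ih =>
    have h' : ((1 <<< y.1) ||| msk l).testBit k = true := h
    rw [Nat.testBit_or, Bool.or_eq_true] at h'
    rcases h' with h' | h'
    · right
      refine ⟨y, List.mem_cons_self, ?_⟩
      rw [Nat.testBit_shiftLeft, Bool.and_eq_true, decide_eq_true_eq,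
        Nat.testBit_one_eq_true_iff_self_eq_zero] at h'
      omega
    · rcases ih h' with h1 | ⟨x, hx, hk⟩
      · exact Or.inl h1
      · exact Or.inr ⟨x, List.mem_cons_of_mem _ hx, hk⟩

theorem chkM : Nat.beq (Nat.land F F3) (msk L10) = true := by decide +kernel

/-- check of an entry -/
noncomputable def chkE (x : ℕ × List Suz.Gen × ℕ × ℕ) : Bool :=
  and (and (Nat.beq (wtr x.2.1 1) x.1) (and (Nat.beq (wtr x.2.1 1575) 1575) (Nat.beq (wtr x.2.1 0) 0)))
    (and (and (Nat.ble x.2.2.1 1781) (Nat.ble x.2.2.2 1781))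
      (and (Nat.beq (wtr x.2.1 x.2.2.1) (wtr [.a] (wtr x.2.1 2)))
        (and (Nat.beq (wtr x.2.1 x.2.2.2) (wtr [.a] (wtr x.2.1 (wtr [.d] 2))))
          (not (Nat.beq (wtr [.d] x.2.2.1) x.2.2.2)))))

noncomputable def allE (l : List (ℕ × List Suz.Gen × ℕ × ℕ)) : Bool :=
  List.rec (motive := fun _ => Bool) true (fun x _ ih => and (chkE x) ih) l

theorem allE_spec {l : List (ℕ × List Suz.Gen × ℕ × ℕ)} (h : allE l = true) : ∀ x ∈ l, chkE x = true := by
  induction l with
  | nil => intro x hx; exact absurd hx (by simp)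
  | cons y l ih =>
    have h' : and (chkE y) (allE l) = true := h
    rw [Bool.and_eq_true] at h'
    intro x hx
    rcases List.mem_cons.1 hx with rfl | hx
    · exact h'.1
    · exact ih h'.2 x hx

theorem chkL : allE L10 = true := by decide +kernel

theorem z0_fixp1 : φ z0 1 = 1 := (Rep.el [.a]).pt (by decide +kernel)

theorem fix_one {g : Suz} (hg : g ∈ C1) (h2 : g ∈ stabL φ [1575, 0]) : φ g 1 = 1 := by
  have h1 := fix_of_C1 hg z0_fixp1
  have hlt : φ g 1 < 1782 := φ_lt 1 (by norm_num)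
  have h3 := mem_F_of_fix hlt h1
  have h4 := mem_F3 h2
  have h5 : (msk L10).testBit (φ g 1) = true := by
    rw [← Nat.eq_of_beq_eq_true chkM]
    show (F &&& F3).testBit _ = true
    rw [Nat.testBit_and, h3, h4]; rfl
  rcases msk_spec h5 with h6 | ⟨x, hx, hxp⟩
  · exact h6
  · exfalso
    have h7 := allE_spec chkL x hx
    obtain ⟨p, w, q3, s3⟩ := x
    unfold chkE at h7
    simp only [Bool.and_eq_true, Nat.beq_eq, Bool.not_eq_true', Nat.ble_eq] at h7
    obtain ⟨⟨e1, e2, e3⟩, ⟨l1, l2⟩, e4, e5, e6⟩ := h7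
    have hxp' : p = φ g 1 := hxp
    set v := el w with hv
    have hs : ∀ (u : List Suz.Gen) (i : ℕ), i < 1782 → φ (el u) i = wtr u i := fun u i hi => (wtr_spec u i hi).1
    have hw : ∀ i, i < 1782 → φ v i = wtr w i := fun i hi => hs w i hi
    -- `v ∈ stabL [1575, 0]`, `v 1 = p`
    have hv1 : φ v 1 = φ g 1 := by rw [hw 1 (by norm_num), e1, hxp']
    have hgv : g⁻¹ * v ∈ stabL φ [1, 1575, 0] := by
      intro q hq
      rw [map_mul, map_inv, Equiv.Perm.mul_apply, Equiv.Perm.inv_eq_iff_eq]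
      simp only [List.mem_cons, List.not_mem_nil, or_false] at hq
      rcases hq with rfl | rfl | rfl
      · exact hv1
      · rw [hw _ (by norm_num), e2]; exact (h2 1575 (by simp)).symm
      · rw [hw _ (by norm_num), e3]; exact (h2 0 (by simp)).symm
    have hd : el [.d] ∈ stabL φ [1, 1575, 0] := gc_fix (by simp [gc])
    have hk : g⁻¹ * v * el [.d] * (g⁻¹ * v)⁻¹ ∈ C1 :=
      stab3_le (Subgroup.mul_mem _ (Subgroup.mul_mem _ hgv hd) (Subgroup.inv_mem _ hgv))
    have hk2 : v * el [.d] * v⁻¹ ∈ C1 := by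
      have := C1.mul_mem (C1.mul_mem hg hk) (C1.inv_mem hg)
      have e : g * (g⁻¹ * v * el [.d] * (g⁻¹ * v)⁻¹) * g⁻¹ = v * el [.d] * v⁻¹ := by group
      rwa [e] at this
    have hk3 := mem_C1.1 hk2
    have hk4 : el [.d] * (v⁻¹ * z0 * v) = (v⁻¹ * z0 * v) * el [.d] := by
      calc el [.d] * (v⁻¹ * z0 * v) = v⁻¹ * (v * el [.d] * v⁻¹ * z0) * v := by group
        _ = (v⁻¹ * z0 * v) * el [.d] := by rw [hk3]; group
    have lt2 : wtr w 2 < 1782 := (wtr_spec w 2 (by norm_num)).2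
    have ltd : wtr [.d] 2 < 1782 := (wtr_spec [.d] 2 (by norm_num)).2
    have ltd2 : wtr w (wtr [.d] 2) < 1782 := (wtr_spec w _ ltd).2
    have y2 : φ (v⁻¹ * z0 * v) 2 = q3 := by
      rw [map_mul, map_mul, map_inv, Equiv.Perm.mul_apply, Equiv.Perm.mul_apply, Equiv.Perm.inv_eq_iff_eq,
        hw 2 (by norm_num), hw q3 (by omega), hs [.a] _ lt2, e4]
    have y3 : φ (v⁻¹ * z0 * v) (φ (el [.d]) 2) = s3 := by
      rw [hs [.d] 2 (by norm_num), map_mul, map_mul, map_inv, Equiv.Perm.mul_apply, Equiv.Perm.mul_apply,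
        Equiv.Perm.inv_eq_iff_eq, hw _ ltd, hw s3 (by omega), hs [.a] _ ltd2, e5]
    have h8 : φ (el [.d] * (v⁻¹ * z0 * v)) 2 = φ ((v⁻¹ * z0 * v) * el [.d]) 2 := by rw [hk4]
    rw [map_mul φ (el [.d]), map_mul φ (v⁻¹ * z0 * v) (el [.d]), Equiv.Perm.mul_apply, Equiv.Perm.mul_apply,
      y2, y3, hs [.d] q3 (by omega)] at h8
    rw [h8] at e6
    have h9 : Nat.beq s3 s3 = true := Nat.beq_refl s3
    rw [h9] at e6
    exact absurd e6 (by decide)

theorem card_C1_2 : Nat.card (stabL (φS C1) [1575, 0]) = 1920 := by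
  have h1 : stabL (φS C1) [1575, 0] = (stabL φ [1, 1575, 0]).subgroupOf C1 := by
    ext g
    constructor
    · intro hg
      rw [Subgroup.mem_subgroupOf]
      have h2 : (g : Suz) ∈ stabL φ [1575, 0] := hg
      intro q hq
      rcases List.mem_cons.1 hq with rfl | hq
      · exact fix_one g.2 h2
      · exact h2 q hq
    · intro hg q hq
      exact (Subgroup.mem_subgroupOf.1 hg) q (List.mem_cons_of_mem _ hq)
  rw [h1, Nat.card_congr (Subgroup.subgroupOfEquivOfLe stab3_le).toEquiv, card_stab3_eq]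

/-- **The order of the centraliser of `a`.** -/
theorem card_C1 : Nat.card C1 = 3317760 := by
  have h0 : Nat.card (stabL (φS C1) []) = Nat.card C1 := by
    have : stabL (φS C1) [] = ⊤ := by
      rw [eq_top_iff]; intro g _ q hq; exact absurd hq (by simp)
    rw [this, Subgroup.card_top]
  rw [← h0, card_C1_0, card_C1_1, card_C1_2]

/-- the centraliser of `a` is generated by the five words -/
theorem cl_ga : cl ga = C1 := cl_ga_eq card_C1

/-- the centraliser of `a` normalises `Q0` -/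
theorem C1_le_normalizer : C1 ≤ Subgroup.normalizer (QZero.Q0 : Set Suz) := by
  rw [← cl_ga]; exact QZero.cl_le_normalizer

theorem z0_eq : z0 = Cfsg.Agent.SporRec.SuzCl.ia := by
  show ([Suz.Gen.a].map fun x => (PresentedGroup.of x : Suz)).prod = PresentedGroup.of Suz.Gen.a
  rw [List.map_singleton, List.prod_singleton]

theorem C1_eq : C1 = Subgroup.centralizer ({Cfsg.Agent.SporRec.SuzCl.ia} : Set Suz) := by
  rw [C1, z0_eq]

end Cfsg.Agent.SuzThree.CentCard
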