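import Cfsg.Agent.SuzThree.Transport

/-!
The 3-local statement about the subgroups of order 3 with quaternion commutator in the Suzuki group, for a group
isomorphic to the presented Suzuki group.
-/

set_option autoImplicit false
set_option maxRecDepth 100000
set_option exponentiation.threshold 4000

open scoped Pointwise

namespace Cfsg.Agent.SuzThree.Final

open Cfsg.Spor Cfsg.Agent.SporadicRecognition.SuzOrder
  Cfsg.Agent.SuzThree.Basic Cfsg.Agent.SuzThree.Elts
  Cfsg.Agent.SuzThree.Elementary Cfsg.Agent.SuzThree.CentA Cfsg.Agent.SuzThree.CentB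
  Cfsg.Agent.SuzThree.QZero Cfsg.Agent.SuzThree.Transport Cfsg.Agent.SuzThree.NormElts

variable {G : Type*} [Group G] [Finite G]

/-- The isomorphism can be chosen to map `X` to the first special subgroup (auxiliary form). -/
theorem exists_iso_aux (z : G) (C : Subgroup G) (hCdef : C = Subgroup.centralizer ({z} : Set G))
    (Q : Subgroup C) [Q.Normal]
    (hF : Cfsg.generalizedFittingSubgroup C = Q)
    (hcard : Nat.card Q = 2 ^ 7)
    (e : C ⧸ Q ≃* Cfsg.Omega (ZMod 2) (Cfsg.quadFormMinus 2 (ZMod 2) 1 1))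
    (X : Subgroup C) (hX : Nat.card X = 3)
    (hQX : Nat.card ↥⁅Q, X⁆ = 8) (ψ : G ≃* Suz) (hψ : ψ z = z0) :
    ∃ ψ : G ≃* Suz, (X.map C.subtype).map ψ.toMonoidHom = Subgroup.zpowers (x .i0) := by
  -- the centraliser
  have hmemC : ∀ c : G, c ∈ C ↔ ψ c ∈ C1 := by
    intro c
    rw [hCdef, Subgroup.mem_centralizer_singleton_iff, mem_C1, ← hψ, ← map_mul, ← map_mul]
    exact ψ.injective.eq_iff.symm
  have hCmap : C.map ψ.toMonoidHom = C1 := by
    ext c
    constructor
    · rintro ⟨d, hd, rfl⟩; exact (hmemC d).1 hd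
    · intro hc
      refine ⟨ψ.symm c, (hmemC _).2 ?_, ψ.apply_symm_apply c⟩
      rw [ψ.apply_symm_apply]; exact hc
  have hcC : Nat.card C1 = Nat.card C := by
    rw [← hCmap, Nat.card_congr (C.equivMapOfInjective ψ.toMonoidHom ψ.injective).symm.toEquiv]
  have hdvd : Nat.card C ∣ 6635520 := by
    rw [Subgroup.card_eq_card_quotient_mul_card_subgroup Q, hcard, Nat.card_congr e.toEquiv,
      show 6635520 = 51840 * 2 ^ 7 by norm_num]
    exact Nat.mul_dvd_mul_right card_Omega_dvd _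
  have hC1 : Nat.card C1 = 3317760 := card_C1_of (by rw [hcC]; exact hdvd)
  have hgen := cl_ga_eq hC1
  have hnorm : C1 ≤ Subgroup.normalizer (Q0 : Set Suz) := by rw [← hgen]; exact cl_le_normalizer
  -- the map from C
  let f : C →* Suz := ψ.toMonoidHom.comp C.subtype
  have hfinj : Function.Injective f := ψ.injective.comp Subtype.val_injective
  have hfC : ∀ c : C, f c ∈ C1 := fun c => (hmemC c).1 c.2
  -- Q0 is contained in the image of Q
  have hN : Q0.comap f ≤ Q := by
    have hp : IsPGroup 2 (Q0.comap f) := isPGroup_Q0.comap_of_injective f hfinj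
    have h2 : Fact (Nat.Prime 2) := ⟨Nat.prime_two⟩
    have hnil : Group.IsNilpotent (Q0.comap f) := hp.isNilpotent
    have hnor : (Q0.comap f).Normal := by
      constructor
      intro n hn c
      have h1 := (hnorm (hfC c) (f n)).1 hn
      show f (c * n * c⁻¹) ∈ Q0
      rw [map_mul, map_mul, map_inv]
      exact h1
    have h3 : Q0.comap f ≤ Cfsg.fittingSubgroup C := le_sSup ⟨hnor, hnil⟩
    refine h3.trans ?_
    rw [← hF]; exact le_sup_right
  have hQle : Q0 ≤ (Q.map C.subtype).map ψ.toMonoidHom := by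
    intro u hu
    have hu1 : ψ.symm u ∈ C := by
      rw [hmemC, ψ.apply_symm_apply]; exact Q0_le hu
    have hfu : f ⟨ψ.symm u, hu1⟩ = u := ψ.apply_symm_apply u
    have h1 : (⟨ψ.symm u, hu1⟩ : C) ∈ Q := hN (by
      show f ⟨ψ.symm u, hu1⟩ ∈ Q0
      rw [hfu]; exact hu)
    exact ⟨ψ.symm u, ⟨⟨ψ.symm u, hu1⟩, h1, rfl⟩, ψ.apply_symm_apply u⟩
  have hXle : (X.map C.subtype).map ψ.toMonoidHom ≤ C1 := by
    rintro _ ⟨_, ⟨c, _, rfl⟩, rfl⟩
    exact hfC c
  have hX3 : Nat.card ((X.map C.subtype).map ψ.toMonoidHom) = 3 := by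
    rw [Subgroup.map_map, Nat.card_congr (X.equivMapOfInjective f hfinj).symm.toEquiv, hX]
  have hcomm : Nat.card ↥⁅(Q.map C.subtype).map ψ.toMonoidHom, (X.map C.subtype).map ψ.toMonoidHom⁆
      ≤ 8 := by
    rw [Subgroup.map_map, Subgroup.map_map, ← Subgroup.map_commutator,
      Nat.card_congr ((⁅Q, X⁆).equivMapOfInjective f hfinj).symm.toEquiv, hQX]
  have hQn : C1 ≤ Subgroup.normalizer (((Q.map C.subtype).map ψ.toMonoidHom : Subgroup Suz) : Set Suz) := by
    intro c hc
    apply Subgroup.mem_normalizer_fintype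
    rintro _ ⟨_, ⟨q, hq, rfl⟩, rfl⟩
    have hc1 : ψ.symm c ∈ C := by rw [hmemC, ψ.apply_symm_apply]; exact hc
    refine ⟨_, ⟨⟨ψ.symm c, hc1⟩ * q * ⟨ψ.symm c, hc1⟩⁻¹, Subgroup.Normal.conj_mem inferInstance q hq _,
      rfl⟩, ?_⟩
    show ψ (ψ.symm c * q * (ψ.symm c)⁻¹) = c * ψ q * c⁻¹
    rw [map_mul, map_mul, map_inv, ψ.apply_symm_apply]
  obtain ⟨g, hg⟩ := GoodX.main hQle hXle hX3 hcomm hQn hC1
  refine ⟨ψ.trans (MulAut.conj g), ?_⟩
  rw [← hg, Subgroup.map_map (X.map C.subtype)]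
  rfl

/-- The isomorphism can be chosen to map `X` to the first special subgroup. -/
theorem exists_iso_X (z : G) (hz : orderOf z = 2)
    (Q : Subgroup (Subgroup.centralizer ({z} : Set G))) [Q.Normal]
    (hF : Cfsg.generalizedFittingSubgroup (Subgroup.centralizer ({z} : Set G)) = Q)
    (hQ : Cfsg.IsExtraspecial 2 Q) (hcard : Nat.card Q = 2 ^ 7)
    (e : (Subgroup.centralizer ({z} : Set G)) ⧸ Q ≃*
      Cfsg.Omega (ZMod 2) (Cfsg.quadFormMinus 2 (ZMod 2) 1 1))
    (X : Subgroup (Subgroup.centralizer ({z} : Set G))) (hX : Nat.card X = 3)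
    (hQX : Nat.card ↥⁅Q, X⁆ = 8) (ψ₀ : G ≃* Suz) :
    ∃ ψ : G ≃* Suz, (X.map (Subgroup.centralizer ({z} : Set G)).subtype).map ψ.toMonoidHom =
      Subgroup.zpowers (x .i0) := by
  obtain ⟨ψ, hψ⟩ := exists_iso z hz Q hF hQ ψ₀
  exact exists_iso_aux z _ rfl Q hF hcard e X hX hQX ψ hψ

/-- Transport of the structure of the normaliser. -/
theorem transport (χ : Suz ≃* G) :
    Cfsg.IsElementaryAbelian 3 (A0.map χ.toMonoidHom) ∧
    Nat.card (A0.map χ.toMonoidHom) = 3 ^ 5 ∧
    Subgroup.centralizer ((A0.map χ.toMonoidHom : Subgroup G) : Set G) = A0.map χ.toMonoidHom ∧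
    ∃ _ : ((A0.map χ.toMonoidHom).subgroupOf
      (Subgroup.normalizer ((A0.map χ.toMonoidHom : Subgroup G) : Set G))).Normal,
      IsoM11 (↥(Subgroup.normalizer ((A0.map χ.toMonoidHom : Subgroup G) : Set G)) ⧸
        (A0.map χ.toMonoidHom).subgroupOf
          (Subgroup.normalizer ((A0.map χ.toMonoidHom : Subgroup G) : Set G))) := by
  refine ⟨⟨⟨⟨?_⟩⟩, ?_⟩, ?_, ?_, Subgroup.normal_in_normalizer, ?_⟩
  · rintro ⟨_, ⟨a, ha, rfl⟩⟩ ⟨_, ⟨b, hb, rfl⟩⟩
    apply Subtype.ext
    show χ a * χ b = χ b * χ a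
    rw [← map_mul, comm_A0 ha hb, map_mul]
  · rintro _ ⟨a, ha, rfl⟩
    show χ a ^ 3 = 1
    rw [← map_pow, cube_A0 ha, map_one]
  · rw [Nat.card_congr (A0.equivMapOfInjective χ.toMonoidHom χ.injective).symm.toEquiv, card_A0]
    norm_num
  · apply le_antisymm
    · intro c hc
      have h1 : χ.symm c ∈ A0 := by
        apply Kernel.mem_of_centralizes
        intro v
        have h2 := Subgroup.mem_centralizer_iff.1 hc (χ (E v)) ⟨E v, E_mem v, rfl⟩
        apply χ.injective
        rw [map_mul, map_mul, χ.apply_symm_apply]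
        exact h2.symm
      exact ⟨χ.symm c, h1, χ.apply_symm_apply c⟩
    · rintro _ ⟨a, ha, rfl⟩
      rw [Subgroup.mem_centralizer_iff]
      rintro _ ⟨b, hb, rfl⟩
      show χ b * χ a = χ a * χ b
      rw [← map_mul, comm_A0 hb ha, map_mul]
  · obtain ⟨e⟩ := NormAct.isoM11
    have hN : NA.map χ.toMonoidHom =
        Subgroup.normalizer ((A0.map χ.toMonoidHom : Subgroup G) : Set G) :=
      Subgroup.map_equiv_normalizer_eq A0 χ
    let ε : NA ≃* Subgroup.normalizer ((A0.map χ.toMonoidHom : Subgroup G) : Set G) :=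
      (NA.equivMapOfInjective χ.toMonoidHom χ.injective).trans (MulEquiv.subgroupCongr hN)
    have hε : ∀ n : NA, (ε n : G) = χ n := fun n => rfl
    have hmap : (A0.subgroupOf NA).map (ε : NA →* _) = (A0.map χ.toMonoidHom).subgroupOf
          (Subgroup.normalizer ((A0.map χ.toMonoidHom : Subgroup G) : Set G)) := by
      ext n
      rw [Subgroup.mem_subgroupOf]
      constructor
      · rintro ⟨m, hm, rfl⟩
        exact ⟨m, Subgroup.mem_subgroupOf.1 hm, rfl⟩
      · rintro ⟨a, ha, hn⟩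
        refine ⟨⟨a, Subgroup.le_normalizer ha⟩, Subgroup.mem_subgroupOf.2 ha, ?_⟩
        exact Subtype.ext hn
    exact ⟨(QuotientGroup.congr _ _ ε hmap).symm.trans e⟩

/-- The final argument in the normaliser of a subgroup. -/
theorem main_aux (X' : Subgroup G) (ψ : G ≃* Suz)
    (hψ : X'.map ψ.toMonoidHom = Subgroup.zpowers (x .i0))
    (P : Sylow 3 ↥(Subgroup.normalizer (X' : Set G))) :
    ¬ 3 ∣ ((P : Subgroup ↥(Subgroup.normalizer (X' : Set G))).map
      (Subgroup.subtype (Subgroup.normalizer (X' : Set G)))).index ∧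
    ∃ A : Subgroup G, A ≤ (P : Subgroup ↥(Subgroup.normalizer (X' : Set G))).map
      (Subgroup.subtype (Subgroup.normalizer (X' : Set G))) ∧
      Cfsg.IsElementaryAbelian 3 A ∧ Nat.card A = 3 ^ 5 ∧
      Subgroup.centralizer (A : Set G) = A ∧
      ∃ _ : (A.subgroupOf (Subgroup.normalizer (A : Set G))).Normal,
        IsoM11 (↥(Subgroup.normalizer (A : Set G)) ⧸ A.subgroupOf (Subgroup.normalizer (A : Set G))) := by
  have h3 : Fact (Nat.Prime 3) := ⟨Nat.prime_three⟩
  obtain ⟨P1, hP1, hP1c, hAP, hPN⟩ := SylowThree.exists_P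
  -- the image of `P1` in `G`
  have hXs : (Subgroup.zpowers (x .i0)).map ψ.symm.toMonoidHom = X' := by
    rw [← hψ, Subgroup.map_map]
    have : ψ.symm.toMonoidHom.comp ψ.toMonoidHom = MonoidHom.id G := by
      ext g; exact ψ.symm_apply_apply g
    rw [this, Subgroup.map_id]
  have hP1N : P1.map ψ.symm.toMonoidHom ≤ Subgroup.normalizer (X' : Set G) := by
    rw [← hXs, ← Subgroup.map_equiv_normalizer_eq]
    exact Subgroup.map_mono hPN
  have hp' : IsPGroup 3 ((P1.map ψ.symm.toMonoidHom).subgroupOf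
      (Subgroup.normalizer (X' : Set G))) :=
    (hP1.map ψ.symm.toMonoidHom).comap_of_injective
      (Subgroup.normalizer (X' : Set G)).subtype Subtype.val_injective
  obtain ⟨R, hR⟩ := hp'.exists_le_sylow
  obtain ⟨n, hn⟩ := MulAction.exists_smul_eq (Subgroup.normalizer (X' : Set G)) R P
  -- conjugation
  let χ : Suz ≃* G := ψ.symm.trans (MulAut.conj (n : G))
  have hχ : P1.map χ.toMonoidHom ≤ (P : Subgroup (Subgroup.normalizer (X' : Set G))).map
      (Subgroup.normalizer (X' : Set G)).subtype := by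
    rintro _ ⟨u, hu, rfl⟩
    have hu1 : ψ.symm u ∈ Subgroup.normalizer (X' : Set G) := hP1N ⟨u, hu, rfl⟩
    have h1 : (⟨ψ.symm u, hu1⟩ : Subgroup.normalizer (X' : Set G)) ∈
        (R : Subgroup (Subgroup.normalizer (X' : Set G))) :=
      hR (Subgroup.mem_subgroupOf.2 ⟨u, hu, rfl⟩)
    have h2 : n * ⟨ψ.symm u, hu1⟩ * n⁻¹ ∈ ((n • R : Sylow 3 _) :
        Subgroup (Subgroup.normalizer (X' : Set G))) := by
      have : n * ⟨ψ.symm u, hu1⟩ * n⁻¹ =
          (MulAut.conj n) • (⟨ψ.symm u, hu1⟩ : Subgroup.normalizer (X' : Set G)) := rfl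
      rw [this]
      exact Subgroup.smul_mem_pointwise_smul _ _ _ h1
    rw [hn] at h2
    exact ⟨_, h2, rfl⟩
  constructor
  · have h4 : Nat.card (P1.map χ.toMonoidHom) = Nat.card P1 :=
      Nat.card_congr (P1.equivMapOfInjective χ.toMonoidHom χ.injective).symm.toEquiv
    have h5 : 3 ^ 7 ∣ Nat.card ((P : Subgroup (Subgroup.normalizer (X' : Set G))).map
        (Subgroup.normalizer (X' : Set G)).subtype) := by
      have := Subgroup.card_dvd_of_le hχ
      rw [h4] at this
      exact hP1c.trans this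
    intro h6
    have h7 := Subgroup.card_mul_index ((P : Subgroup (Subgroup.normalizer (X' : Set G))).map
        (Subgroup.normalizer (X' : Set G)).subtype)
    have hcG : Nat.card G = 448345497600 := by rw [Nat.card_congr ψ.toEquiv, card_Suz]
    have h8 : 3 ^ 7 * 3 ∣ 448345497600 := by
      rw [← hcG, ← h7]
      exact Nat.mul_dvd_mul h5 h6
    exact absurd h8 (by norm_num)
  · obtain ⟨t1, t2, t3, t4⟩ := transport χ
    exact ⟨A0.map χ.toMonoidHom, (Subgroup.map_mono hAP).trans hχ, t1, t2, t3, t4⟩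

theorem main (z : G) (hz : orderOf z = 2)
    (Q : Subgroup (Subgroup.centralizer ({z} : Set G))) [Q.Normal]
    (hF : Cfsg.generalizedFittingSubgroup (Subgroup.centralizer ({z} : Set G)) = Q)
    (hQ : Cfsg.IsExtraspecial 2 Q) (hcard : Nat.card Q = 2 ^ 7)
    (e : (Subgroup.centralizer ({z} : Set G)) ⧸ Q ≃*
      Cfsg.Omega (ZMod 2) (Cfsg.quadFormMinus 2 (ZMod 2) 1 1))
    (X : Subgroup (Subgroup.centralizer ({z} : Set G))) (hX : Nat.card X = 3)
    (hQX : Nat.card ↥⁅Q, X⁆ = 8)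
    (P : Sylow 3 ↥(Subgroup.normalizer
      ((X.map (Subgroup.subtype (Subgroup.centralizer ({z} : Set G))) : Subgroup G) : Set G)))
    (hS : IsoSuz G) :
    ¬ 3 ∣ (((P : Subgroup ↥(Subgroup.normalizer ((X.map (Subgroup.subtype (Subgroup.centralizer ({z} : Set G))) : Subgroup G) : Set G))).map (Subgroup.subtype (Subgroup.normalizer ((X.map (Subgroup.subtype (Subgroup.centralizer ({z} : Set G))) : Subgroup G) : Set G)))).index) ∧
    ∃ A : Subgroup G, A ≤ (P : Subgroup ↥(Subgroup.normalizer ((X.map (Subgroup.subtype (Subgroup.centralizer ({z} : Set G))) : Subgroup G) : Set G))).map (Subgroup.subtype (Subgroup.normalizer ((X.map (Subgroup.subtype (Subgroup.centralizer ({z} : Set G))) : Subgroup G) : Set G))) ∧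
      Cfsg.IsElementaryAbelian 3 A ∧ Nat.card A = 3 ^ 5 ∧
      Subgroup.centralizer (A : Set G) = A ∧
      ∃ _ : (A.subgroupOf (Subgroup.normalizer (A : Set G))).Normal,
        IsoM11 (↥(Subgroup.normalizer (A : Set G)) ⧸ A.subgroupOf (Subgroup.normalizer (A : Set G))) := by
  obtain ⟨ψ₀⟩ := hS
  obtain ⟨ψ, hψ⟩ := exists_iso_X z hz Q hF hQ hcard e X hX hQX ψ₀
  exact main_aux _ ψ hψ P

end Cfsg.Agent.SuzThree.Final
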