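import Cfsg.Agent.SuzThree.CentCard

/-!
Involutions of `C = C_Suz(a)` which invert an element of order 4 of `[Q0, b]` are conjugate to `e`.
-/

set_option autoImplicit false
set_option maxRecDepth 100000
set_option exponentiation.threshold 4000

namespace Cfsg.Agent.SuzThree.CentB2

open Cfsg.Spor Cfsg.Agent.Lib.PermNet Cfsg.Agent.Lib.PermNetOrbit Cfsg.Agent.SporadicRecognition.SuzPhi
  Cfsg.Agent.SporadicRecognition.SuzBound Cfsg.Agent.SporadicRecognition.SuzOrder
  Cfsg.Agent.SuzThree.Nets Cfsg.Agent.SuzThree.Basic Cfsg.Agent.SuzThree.Elts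
  Cfsg.Agent.SuzThree.Elementary Cfsg.Agent.SuzThree.CentA Cfsg.Agent.SuzThree.CentB
  Cfsg.Agent.SuzThree.CentCard Cfsg.Agent.SuzThree.QZero
open Cfsg.Agent.SporRec.SuzCl (app tA R tev tev_zero R_Ts Ts Gs pr eqB eq_of_eqB MA MB LA LB ky
  tb_testBit mask_LA mask_spec of_MA of_MB inv_T conj_into T T_le mem_T TS coe_TS not_conj ia ie two
  wtr wtr_spec)

/-! ### Abstract part -/

section abs

variable {G : Type*} [Group G]

/-- commuting modulo `z` -/
def CC (z x y : G) : Prop := x * y = y * x ∨ x * y = z * (y * x)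

theorem CC.symm {z x y : G} (hz : z * z = 1) (h : CC z x y) : CC z y x := by
  rcases h with h | h
  · exact Or.inl h.symm
  · right
    rw [h, ← mul_assoc, hz, one_mul]

theorem cc_closure {z : G} {S : Set G} {x : G} (hz : z * z = 1) (hzS : ∀ y ∈ S, z * y = y * z)
    (h : ∀ y ∈ S, CC z x y) :
    ∀ y ∈ Subgroup.closure S, CC z x y ∧ z * y = y * z := by
  intro y hy
  induction hy using Subgroup.closure_induction with
  | mem y hy => exact ⟨h y hy, hzS y hy⟩
  | one => exact ⟨Or.inl (by simp), by simp⟩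
  | mul a b _ _ ha hb =>
    obtain ⟨ha, ha'⟩ := ha
    obtain ⟨hb, hb'⟩ := hb
    refine ⟨?_, by rw [← mul_assoc, ha', mul_assoc, hb', mul_assoc]⟩
    rcases ha with ha | ha <;> rcases hb with hb | hb
    · left
      rw [← mul_assoc, ha, mul_assoc, hb, mul_assoc]
    · right
      rw [← mul_assoc, ha, mul_assoc, hb, ← mul_assoc, ← ha']
      group
    · right
      rw [← mul_assoc, ha]
      calc z * (a * x) * b = z * (a * (x * b)) := by group
        _ = z * (a * b * x) := by rw [hb]; group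
    · left
      rw [← mul_assoc, ha]
      calc z * (a * x) * b = z * (a * (x * b)) := by group
        _ = z * a * z * (b * x) := by rw [hb]; group
        _ = a * (z * z) * (b * x) := by rw [ha']; group
        _ = a * b * x := by rw [hz]; group
  | inv a _ ha =>
    obtain ⟨ha, ha'⟩ := ha
    have ha'' : z * a⁻¹ = a⁻¹ * z := by
      rw [eq_inv_mul_iff_mul_eq, ← mul_assoc, ← ha', mul_inv_cancel_right]
    refine ⟨?_, ha''⟩
    rcases ha with ha | ha
    · left
      rw [eq_inv_mul_iff_mul_eq, ← mul_assoc, ← ha, mul_inv_cancel_right]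
    · right
      -- x a = z a x, so a⁻¹ x = z x a⁻¹
      have h1 : a * (x * a⁻¹) = z * x := by
        have h2 : z * (a * x) = x * a := ha.symm
        have h3 : a * x = z * (x * a) := by rw [← h2, ← mul_assoc, hz, one_mul]
        rw [← mul_assoc, h3]; group
      calc x * a⁻¹ = a⁻¹ * (a * (x * a⁻¹)) := by group
        _ = a⁻¹ * z * x := by rw [h1]; group
        _ = z * (a⁻¹ * x) := by rw [← ha'']; group

/-- If the commutators `[q, b]` of `b` with the generators `q ∈ S` are commuting involutions, all commutators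
`[y, b]`, `y ∈ ⟨z, S⟩`, are involutions. -/
theorem comm_sq {z b : G} {S : Set G} (hz : z * z = 1) (hzS : ∀ y ∈ S, z * y = y * z) (hzb : z * b = b * z)
    (hSS : ∀ x ∈ S, ∀ y ∈ S, CC z x y)
    (hb : ∀ x ∈ S, b * x * b⁻¹ ∈ Subgroup.closure (insert z S))
    (h1 : ∀ x ∈ S, x * b * x⁻¹ * b⁻¹ * (x * b * x⁻¹ * b⁻¹) = 1)
    (h2 : ∀ x ∈ S, ∀ y ∈ S, x * b * x⁻¹ * b⁻¹ * (y * b * y⁻¹ * b⁻¹) = y * b * y⁻¹ * b⁻¹ * (x * b * x⁻¹ * b⁻¹)) :
    ∀ y ∈ Subgroup.closure (insert z S), y * b * y⁻¹ * b⁻¹ * (y * b * y⁻¹ * b⁻¹) = 1 := by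
  set Q := Subgroup.closure (insert z S) with hQ
  set D : Set G := insert z {w | ∃ x ∈ S, w = x * b * x⁻¹ * b⁻¹} with hD
  set A := Subgroup.closure D with hA
  have hzQ : z ∈ Q := Subgroup.subset_closure (Set.mem_insert _ _)
  have hzA : z ∈ A := Subgroup.subset_closure (Set.mem_insert _ _)
  have hzS' : ∀ y ∈ insert z S, z * y = y * z := by
    rintro y (rfl | hy)
    · rfl
    · exact hzS y hy
  -- elements of Q commute modulo z
  have hQQ : ∀ x ∈ Q, ∀ y ∈ Q, CC z x y ∧ z * y = y * z := by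
    intro x hx
    have hxz : z * x = x * z := (cc_closure hz hzS' (x := z) (fun y hy => Or.inl (hzS' y hy)) x hx).2
    apply cc_closure hz hzS'
    intro y hy
    have hyz := hzS' y hy
    apply CC.symm hz
    have h3 : ∀ t ∈ insert z S, CC z y t := by
      rintro t (rfl | ht)
      · exact Or.inl hyz.symm
      · rcases hy with rfl | hy
        · exact Or.inl (hzS t ht)
        · exact hSS y hy t ht
    exact (cc_closure hz hzS' h3 x hx).1
  have hDQ : A ≤ Q := by
    rw [hA, Subgroup.closure_le]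
    rintro w (rfl | ⟨x, hx, rfl⟩)
    · exact hzQ
    · have hxQ : x ∈ Q := Subgroup.subset_closure (Set.mem_insert_of_mem _ hx)
      have h3 : b * x⁻¹ * b⁻¹ ∈ Q := by
        have := Q.inv_mem (hb x hx)
        have e : (b * x * b⁻¹)⁻¹ = b * x⁻¹ * b⁻¹ := by group
        rwa [e] at this
      have := Q.mul_mem hxQ h3
      have e : x * (b * x⁻¹ * b⁻¹) = x * b * x⁻¹ * b⁻¹ := by group
      rwa [e] at this
  -- A is elementary abelian
  have hAc : ∀ x ∈ A, ∀ y ∈ A, x * y = y * x := by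
    have hDD : ∀ x ∈ D, ∀ y ∈ D, x * y = y * x := by
      rintro x (rfl | ⟨x, hx, rfl⟩) y (rfl | ⟨y, hy, rfl⟩)
      · rfl
      · have h3 := (hQQ _ hzQ _ (hDQ (Subgroup.subset_closure (Set.mem_insert_of_mem _ ⟨y, hy, rfl⟩)))).2
        exact h3
      · have h3 := (hQQ _ hzQ _ (hDQ (Subgroup.subset_closure (Set.mem_insert_of_mem _ ⟨x, hx, rfl⟩)))).2
        exact h3.symm
      · exact h2 x hx y hy
    intro x hx y hy
    have h3 : ∀ t ∈ A, ∀ s ∈ D, t * s = s * t := by
      intro t ht s hs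
      induction ht using Subgroup.closure_induction with
      | mem t ht => exact hDD t ht s hs
      | one => simp
      | mul u v _ _ hu hv => rw [mul_assoc, hv, ← mul_assoc, hu, mul_assoc]
      | inv u _ hu => rw [inv_mul_eq_iff_eq_mul, ← mul_assoc, hu, mul_inv_cancel_right]
    induction hy using Subgroup.closure_induction with
    | mem y hy => exact h3 x hx y hy
    | one => simp
    | mul u v _ _ hu hv => rw [← mul_assoc, hu, mul_assoc, hv, mul_assoc]
    | inv u _ hu => rw [eq_inv_mul_iff_mul_eq, ← mul_assoc, ← hu, mul_inv_cancel_right]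
  have hA2 : ∀ x ∈ A, x * x = 1 := by
    intro x hx
    induction hx using Subgroup.closure_induction with
    | mem x hx =>
      rcases hx with rfl | ⟨x, hx, rfl⟩
      · exact hz
      · exact h1 x hx
    | one => simp
    | mul u v hu hv hu2 hv2 =>
      have h3 := hAc v hv u hu
      calc u * v * (u * v) = u * (v * u) * v := by group
        _ = (u * u) * (v * v) := by rw [h3]; group
        _ = 1 := by rw [hu2, hv2, one_mul]
    | inv u _ hu2 => rw [← mul_inv_rev, hu2, inv_one]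
  intro y hy
  apply hA2
  induction hy using Subgroup.closure_induction with
  | mem y hy =>
    rcases hy with rfl | hy
    · rw [hzb]
      simp
    · exact Subgroup.subset_closure (Set.mem_insert_of_mem _ ⟨y, hy, rfl⟩)
  | one => simp
  | mul u v hu hv hu2 hv2 =>
    have e : u * v * b * (u * v)⁻¹ * b⁻¹ = u * (v * b * v⁻¹ * b⁻¹) * u⁻¹ * (u * b * u⁻¹ * b⁻¹) := by group
    rw [e]
    refine A.mul_mem ?_ hu2
    rcases (hQQ u hu _ (hDQ hv2)).1 with h3 | h3
    · rw [h3, mul_inv_cancel_right]; exact hv2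
    · rw [h3, ← mul_assoc, mul_inv_cancel_right]
      exact A.mul_mem hzA hv2
  | inv u hu hu2 =>
    have e : u⁻¹ * b * u⁻¹⁻¹ * b⁻¹ = u⁻¹ * (u * b * u⁻¹ * b⁻¹)⁻¹ * u⁻¹⁻¹ := by group
    rw [e]
    have h4 := A.inv_mem hu2
    rcases (hQQ u⁻¹ (Q.inv_mem hu) _ (hDQ h4)).1 with h3 | h3
    · rw [h3, mul_inv_cancel_right]; exact h4
    · rw [h3, ← mul_assoc, mul_inv_cancel_right]
      exact A.mul_mem hzA h4

end abs

/-! ### The check on the Sylow subgroup -/

/-- the index in `T` of the generator `q i` -/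
def qk : Qx → ℕ
  | .k1 => 2048
  | .k2 => 2
  | .k3 => 74
  | .k4 => 1024
  | .k5 => 512
  | .k6 => 4142

theorem q_eq (i : Qx) : q i = pr Gs (qk i) := by
  have h : allL (fun i => eqB (fun p => wtr (qw i) p) (fun p => tev Ts (qk i) 0 p)) ql = true := by
    decide +kernel
  exact eq_of_eqB (fun p hp => (wtr_spec _ p hp).1) (fun p hp => (tev_zero R_Ts _ p hp).1)
    (allL_spec h i (mem_ql i))

/-- `[q i, b]` as a function, `b = pr Gs k` -/
noncomputable def wf (k : ℕ) (i : Qx) (p : ℕ) : ℕ :=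
  tev Ts (qk i) 0 (tev Ts k 0 (tev Ts (qk i) 0 (tev Ts k 0 p)))

noncomputable def chkW (k : ℕ) : Bool :=
  allL (fun i => and (eqB (fun p => wf k i (wf k i p)) (fun p => p))
    (allL (fun j => eqB (fun p => wf k i (wf k j p)) (fun p => wf k j (wf k i p))) ql)) ql

theorem chk_all : Cfsg.Agent.SporRec.SuzCl.allL (fun x => chkW (ky x)) LA = true := by decide +kernel

theorem wf_spec {k : ℕ} (hk : pr Gs k * pr Gs k = 1) (i : Qx) (p : ℕ) (hp : p < 1782) :
    φ (q i * pr Gs k * (q i)⁻¹ * (pr Gs k)⁻¹) p = wf k i p ∧ wf k i p < 1782 := by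
  have hki : (pr Gs k)⁻¹ = pr Gs k := inv_eq_of_mul_eq_one_left hk
  have hqi : (q i)⁻¹ = q i := inv_eq_of_mul_eq_one_left (q_sq i)
  rw [hki, hqi, map_mul, map_mul, map_mul, Equiv.Perm.mul_apply, Equiv.Perm.mul_apply, Equiv.Perm.mul_apply]
  have s1 := tev_zero R_Ts k p hp
  have s2 := tev_zero R_Ts (qk i) _ s1.2
  have s3 := tev_zero R_Ts k _ s2.2
  have s4 := tev_zero R_Ts (qk i) _ s3.2
  refine ⟨?_, s4.2⟩
  rw [s1.1, q_eq i, s2.1, s3.1, s4.1]
  rfl

/-- **Involutions of `C` inverting an element of order 4 of `[Q0, b]` are conjugate to `e`.** -/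
theorem conj_e {b x : Suz} (hb : b ∈ C1) (hbb : b * b = 1) (hx : x ∈ Q0)
    (hne : x * b * x⁻¹ * b⁻¹ * (x * b * x⁻¹ * b⁻¹) ≠ 1) : ∃ g, g * ie * g⁻¹ = b := by
  have hb1 : b ≠ 1 := by
    rintro rfl
    apply hne
    simp
  rcases two b hbb hb1 with ⟨w, hw⟩ | h
  swap
  · exact h
  exfalso
  have hTC : ((TS : Subgroup Suz)) ≤ C1 := by
    rw [C1_eq, coe_TS]; exact T_le
  obtain ⟨h, hh, hT⟩ := conj_into TS C1 hTC b hb hbb
  obtain ⟨k, hk, hk2⟩ := (mem_T _).1 hT
  have hkk : pr Gs k * pr Gs k = 1 := by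
    rw [← hk2]
    calc h * b * h⁻¹ * (h * b * h⁻¹) = h * (b * b) * h⁻¹ := by group
      _ = 1 := by rw [hbb]; group
  have hk1 : pr Gs k ≠ 1 := by
    rw [← hk2]
    intro h4
    apply hb1
    calc b = h⁻¹ * (h * b * h⁻¹) * h := by group
      _ = 1 := by rw [h4]; group
  have hMA : Cfsg.Agent.SporRec.SuzCl.tb MA k = true := by
    rcases inv_T hk hk1 hkk with h5 | h5
    · exact h5
    · exfalso
      obtain ⟨w', hw'⟩ := of_MB h5
      apply not_conj (w'⁻¹ * h * w)
      have hw2 : w' * ie * w'⁻¹ = h * b * h⁻¹ := hw'.trans hk2.symm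
      calc w'⁻¹ * h * w * ia * (w'⁻¹ * h * w)⁻¹ = w'⁻¹ * (h * (w * ia * w⁻¹) * h⁻¹) * w' := by group
        _ = w'⁻¹ * (w' * ie * w'⁻¹) * w' := by rw [hw, hw2]
        _ = ie := by group
  rw [tb_testBit, ← mask_LA] at hMA
  obtain ⟨x0, hx0, hx0k⟩ := mask_spec hMA
  have hchk := Cfsg.Agent.SporRec.SuzCl.allL_spec chk_all x0 hx0
  rw [hx0k] at hchk
  set b' := pr Gs k with hb'
  have hb'C : b' ∈ C1 := by
    rw [← hk2]; exact C1.mul_mem (C1.mul_mem hh hb) (C1.inv_mem hh)
  have hz0 : ∀ c ∈ C1, z0 * c = c * z0 := fun c hc => (mem_C1.1 hc).symm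
  have key := comm_sq (z := z0) (b := b') (S := {y | y ∈ ql.map q}) z_sq
    (by
      intro y hy
      obtain ⟨i, -, rfl⟩ := List.mem_map.1 hy
      exact hz0 _ (q_mem_C1 i)) (hz0 _ hb'C)
    (by
      intro x hx y hy
      obtain ⟨i, -, rfl⟩ := List.mem_map.1 hx
      obtain ⟨j, -, rfl⟩ := List.mem_map.1 hy
      exact q_comm i j)
    (by
      intro x hx
      obtain ⟨i, -, rfl⟩ := List.mem_map.1 hx
      exact (Subgroup.mem_normalizer_iff.1 (C1_le_normalizer hb'C) _).1 (q_mem i))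
    (by
      intro x hx
      obtain ⟨i, -, rfl⟩ := List.mem_map.1 hx
      have h1 := allL_spec hchk i (mem_ql i)
      simp only [Bool.and_eq_true] at h1
      refine eq_of_eqB (f := fun p => wf k i (wf k i p)) (g := fun p => p) ?_ ?_ h1.1
      · intro p hp
        have s1 := wf_spec hkk i p hp
        rw [map_mul, Equiv.Perm.mul_apply, s1.1, (wf_spec hkk i _ s1.2).1]
      · intro p _; rw [map_one]; rfl)
    (by
      intro x hx y hy
      obtain ⟨i, -, rfl⟩ := List.mem_map.1 hx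
      obtain ⟨j, -, rfl⟩ := List.mem_map.1 hy
      have h1 := allL_spec hchk i (mem_ql i)
      simp only [Bool.and_eq_true] at h1
      refine eq_of_eqB (f := fun p => wf k i (wf k j p)) (g := fun p => wf k j (wf k i p)) ?_ ?_
        (allL_spec h1.2 j (mem_ql j))
      · intro p hp
        have s1 := wf_spec hkk j p hp
        rw [map_mul, Equiv.Perm.mul_apply, s1.1, (wf_spec hkk i _ s1.2).1]
      · intro p hp
        have s1 := wf_spec hkk i p hp
        rw [map_mul, Equiv.Perm.mul_apply, s1.1, (wf_spec hkk j _ s1.2).1])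
  have hx' : h * x * h⁻¹ ∈ Q0 := (Subgroup.mem_normalizer_iff.1 (C1_le_normalizer hh) _).1 hx
  have h2 := key _ hx'
  apply hne
  rw [← hk2] at h2
  have e : h * x * h⁻¹ * (h * b * h⁻¹) * (h * x * h⁻¹)⁻¹ * (h * b * h⁻¹)⁻¹ *
      (h * x * h⁻¹ * (h * b * h⁻¹) * (h * x * h⁻¹)⁻¹ * (h * b * h⁻¹)⁻¹) =
      h * (x * b * x⁻¹ * b⁻¹ * (x * b * x⁻¹ * b⁻¹)) * h⁻¹ := by group
  rw [e] at h2
  calc x * b * x⁻¹ * b⁻¹ * (x * b * x⁻¹ * b⁻¹)
      = h⁻¹ * (h * (x * b * x⁻¹ * b⁻¹ * (x * b * x⁻¹ * b⁻¹)) * h⁻¹) * h := by group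
    _ = 1 := by rw [h2]; group

end Cfsg.Agent.SuzThree.CentB2
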