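import Cfsg.Agent.SporadicRecognition.SuzOrder
import Cfsg.Agent.SuzThree.Nets

/-!
Tools for computing in the presented Suzuki group by swap networks on 1782 points.
-/

set_option autoImplicit false
set_option maxRecDepth 100000

namespace Cfsg.Agent.SuzThree.Basic

open Cfsg.Spor Cfsg.Agent.Lib.PermNet Cfsg.Agent.Lib.PermNetOrbit Cfsg.Agent.SporadicRecognition.SuzPhi
  Cfsg.Agent.SporadicRecognition.SuzBound Cfsg.Agent.SporadicRecognition.SuzOrder
  Cfsg.Agent.SuzThree.Nets

/-- `w p = q`, tested on singletons. -/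
noncomputable def mv (w : List Net) (p q : ℕ) : Bool :=
  Nat.beq (appWord w (Nat.pow 2 q)) (Nat.pow 2 p)

theorem mv_spec {N : ℕ} {w : List Net} (hw : WOk N w) {p q : ℕ} (h : mv w p q = true) :
    wperm w p = q := by
  have h1 : appWord w (2 ^ q) = 2 ^ p := Nat.eq_of_beq_eq_true h
  have h2 := testBit_appWord hw (2 ^ q) p
  rw [h1, Nat.testBit_two_pow, Nat.testBit_two_pow] at h2
  have h3 : q = wperm w p := by simpa using h2.symm
  exact h3.symm

/-- `g` acts as the word `w` of networks. -/
structure Rep (g : Suz) (w : List Net) : Prop where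
  ok : WOk (2 ^ 11) w
  eq : φ g = wperm w

theorem Rep.one : Rep 1 [] := ⟨WOk.nil _, by rw [map_one, wperm_nil]⟩

theorem Rep.mul {g h : Suz} {w w' : List Net} (hg : Rep g w) (hh : Rep h w') :
    Rep (g * h) (w ++ w') :=
  ⟨hg.ok.append hh.ok, by rw [map_mul, hg.eq, hh.eq, wperm_append]⟩

theorem Rep.el (w : List Suz.Gen) : Rep (el w) (wd w) := ⟨wd_ok w, φ_el w⟩

theorem Rep.pt {g : Suz} {w : List Net} (hg : Rep g w) {p q : ℕ} (h : mv w p q = true) :
    φ g p = q := by
  rw [hg.eq]; exact mv_spec hg.ok h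

theorem eq_of_reps {g h : Suz} {w w' : List Net} (hg : Rep g w) (hh : Rep h w')
    (hc : checkEq 11 w w' = true) : g = h := by
  apply φ_injective
  rw [hg.eq, hh.eq, wperm_eq_of_checkEq hg.ok hh.ok hc]

/-- All five base points are fixed. -/
noncomputable def t5 (w : List Net) : Bool :=
  and (mv w 0 0) (and (mv w 1575 1575) (and (mv w 1 1) (and (mv w 98 98) (mv w 14 14))))

theorem eq_one_of_t5 {g : Suz} {w : List Net} (hg : Rep g w) (hc : t5 w = true) : g = 1 := by
  simp only [t5, Bool.and_eq_true] at hc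
  obtain ⟨h0, h1, h2, h3, h4⟩ := hc
  apply eq_one_of_fix
  intro q hq
  simp only [List.mem_cons, List.not_mem_nil, or_false] at hq
  rcases hq with rfl | rfl | rfl | rfl | rfl
  · exact hg.pt h4
  · exact hg.pt h3
  · exact hg.pt h2
  · exact hg.pt h1
  · exact hg.pt h0

theorem el_nil : el [] = 1 := rfl

theorem el_append (w w' : List Suz.Gen) : el (w ++ w') = el w * el w' := by
  simp [el]

theorem el_cons (x : Suz.Gen) (w : List Suz.Gen) : el (x :: w) = el [x] * el w :=
  el_append [x] w

theorem gen_sq (x : Suz.Gen) : el [x] * el [x] = 1 := by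
  rw [← el_append]
  apply φ_injective
  rw [φ_el, wperm_wd, map_one]
  simpa using gp_sq x

/-- The inverse of a word is the reversed word. -/
theorem el_reverse (w : List Suz.Gen) : el w.reverse = (el w)⁻¹ := by
  induction w with
  | nil => simp [el]
  | cons x w ih =>
    rw [List.reverse_cons, el_append, ih, el_cons x w, mul_inv_rev,
      inv_eq_of_mul_eq_one_right (gen_sq x)]

/-- Point image of an element represented by a network. -/
theorem φ_lt {g : Suz} (p : ℕ) (hp : p < 1782) : φ g p < 1782 := by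
  have h1 : U0.testBit p = true := by rw [U0_bits, decide_eq_true_eq]; exact hp
  have h2 : p ∈ {p : ℕ | ∃ x ∈ Subgroup.closure S7, φ x 0 = p} := by rw [orb0]; exact h1
  obtain ⟨h, _, rfl⟩ := h2
  have h3 : φ g (φ h 0) ∈ {p : ℕ | ∃ x ∈ Subgroup.closure S7, φ x 0 = p} :=
    ⟨g * h, by rw [closure_S7]; trivial, by rw [map_mul, Equiv.Perm.mul_apply]⟩
  rw [orb0] at h3
  have h4 : U0.testBit (φ g (φ h 0)) = true := h3
  rw [U0_bits, decide_eq_true_eq] at h4
  exact h4

end Cfsg.Agent.SuzThree.Basic
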