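import Cfsg.Agent.SuzThree.Elementary

/-!
The centraliser of the involution `a` in the presented Suzuki group: its order is a multiple of 3317760 = 2^13 3^4 5,
and a subgroup of order at least 3317760 is generated by five words.
-/

set_option autoImplicit false
set_option maxRecDepth 100000
set_option exponentiation.threshold 4000

namespace Cfsg.Agent.SuzThree.CentA

open Cfsg.Spor Cfsg.Agent.Lib.PermNet Cfsg.Agent.Lib.PermNetOrbit Cfsg.Agent.SporadicRecognition.SuzPhi
  Cfsg.Agent.SporadicRecognition.SuzBound Cfsg.Agent.SporadicRecognition.SuzOrder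
  Cfsg.Agent.SuzThree.Nets Cfsg.Agent.SuzThree.Basic Cfsg.Agent.SuzThree.Elts
  Cfsg.Agent.SuzThree.Elementary

/-- words of elements commuting with `a` -/
def h1 : List Suz.Gen := [.b, .c, .f, .b, .a, .b, .f, .c, .b]
/-- words of elements commuting with `a` -/
def h2 : List Suz.Gen := [.b, .c, .g, .b, .a, .b, .g, .c, .b]
/-- words of elements commuting with `a` -/
def h3 : List Suz.Gen := [.b, .a, .c, .b, .a, .b, .d, .c, .d, .b, .c, .a, .b, .a, .b]

/-- the involution -/
noncomputable abbrev z0 : Suz := el [.a]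

/-- its centraliser -/
noncomputable abbrev C1 : Subgroup Suz := Subgroup.centralizer ({z0} : Set Suz)

theorem mem_C1 {g : Suz} : g ∈ C1 ↔ g * z0 = z0 * g := Subgroup.mem_centralizer_singleton_iff

theorem mem_C1_of {w : List Suz.Gen} (h : checkEq 11 (wd (w ++ [.a])) (wd (.a :: w)) = true) :
    el w ∈ C1 := by
  rw [mem_C1, ← el_append, ← el_append]
  exact eq_of_reps (Rep.el _) (Rep.el _) h

theorem d_mem : el [.d] ∈ C1 := mem_C1_of (by decide +kernel)
theorem e_mem : el [.e] ∈ C1 := mem_C1_of (by decide +kernel)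
theorem h1_mem : el h1 ∈ C1 := mem_C1_of (by decide +kernel)
theorem h2_mem : el h2 ∈ C1 := mem_C1_of (by decide +kernel)
theorem h3_mem : el h3 ∈ C1 := mem_C1_of (by decide +kernel)

/-- the words of the generators -/
def ga : List (List Suz.Gen) := [[.d], [.e], h1, h2, h3]
/-- words fixing 0 -/
def gb : List (List Suz.Gen) := [[.d], [.e], h1, h3]
/-- words fixing 0 and 1575 and 1 -/
def gc : List (List Suz.Gen) := [[.d], [.e], h3]

/-- subgroup generated by words -/
noncomputable def cl (L : List (List Suz.Gen)) : Subgroup Suz :=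
  Subgroup.closure {g | ∃ w ∈ L, el w = g}

theorem el_mem_cl {L : List (List Suz.Gen)} {w : List Suz.Gen} (h : w ∈ L) : el w ∈ cl L :=
  Subgroup.subset_closure ⟨w, h, rfl⟩

theorem cl_le {L : List (List Suz.Gen)} {H : Subgroup Suz} (h : ∀ w ∈ L, el w ∈ H) : cl L ≤ H := by
  rw [cl, Subgroup.closure_le]
  rintro g ⟨w, hw, rfl⟩
  exact h w hw

theorem cl_mono {L L' : List (List Suz.Gen)} (h : ∀ w ∈ L, w ∈ L') : cl L ≤ cl L' :=
  cl_le fun w hw => el_mem_cl (h w hw)

theorem ga_le : cl ga ≤ C1 := by
  apply cl_le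
  intro w hw
  simp only [ga, List.mem_cons, List.not_mem_nil, or_false] at hw
  rcases hw with rfl | rfl | rfl | rfl | rfl
  · exact d_mem
  · exact e_mem
  · exact h1_mem
  · exact h2_mem
  · exact h3_mem

/-- action of a subgroup -/
noncomputable def φS (H : Subgroup Suz) : H →* Equiv.Perm ℕ := φ.comp H.subtype

theorem φS_apply (H : Subgroup Suz) (g : H) : φS H g = φ g := rfl

theorem himgS {H : Subgroup Suz} {L : List (List Suz.Gen)} (h : ∀ w ∈ L, el w ∈ H) :
    ∀ w ∈ L.map wd, ∃ g : H, φS H g = wperm w := by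
  intro w hw
  obtain ⟨u, hu, rfl⟩ := List.mem_map.1 hw
  exact ⟨⟨el u, h u hu⟩, φ_el u⟩

theorem wsokS (L : List (List Suz.Gen)) : WsOk (2 ^ 11) (L.map wd) := by
  intro w hw
  obtain ⟨u, hu, rfl⟩ := List.mem_map.1 hw
  exact wd_ok u

theorem x0_eq : x .i0 = el w0 := by
  show el ([] ++ w0 ++ [].reverse) = el w0
  rw [List.reverse_nil, List.append_nil, List.nil_append]

theorem x0_pow : el w0 = el h3 ^ 4 := by
  have h : el h3 ^ 4 = el (h3 ++ h3 ++ h3 ++ h3) := by
    rw [el_append, el_append, el_append]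
    simp only [pow_succ, pow_zero, one_mul]
  rw [h, ← x0_eq]
  exact eq_of_reps (rep_x .i0) (Rep.el _) (by decide +kernel)

theorem w0_mem {H : Subgroup Suz} (h : el h3 ∈ H) : el w0 ∈ H := by
  rw [x0_pow]; exact H.pow_mem h 4

theorem x0_mem_C1 : x .i0 ∈ C1 := by rw [x0_eq]; exact w0_mem h3_mem

/-! ### The subgroup generated by the five words -/

theorem card_ga : 3317760 ≤ Nat.card (cl ga) := by
  have hA : 54 * Nat.card (stabL (φS (cl ga)) [0]) ≤ Nat.card (stabL (φS (cl ga)) []) :=
    stabL_step_of_check (φS (cl ga)) (k := 11) (ws := ga.map wd) [] 0 54 12 (wsokS _)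
      (himgS fun w hw => el_mem_cl hw) (by decide +kernel) (by decide +kernel) (by decide +kernel)
  have hB : 32 * Nat.card (stabL (φS (cl ga)) [1575, 0]) ≤ Nat.card (stabL (φS (cl ga)) [0]) :=
    stabL_step_of_check (φS (cl ga)) (k := 11) (ws := gb.map wd) [0] 1575 32 12 (wsokS _)
      (himgS fun w hw => el_mem_cl (by
        simp only [gb, ga, List.mem_cons, List.not_mem_nil, or_false] at hw ⊢
        tauto)) (by decide +kernel) (by decide +kernel) (by decide +kernel)
  have hC : 640 * Nat.card (stabL (φS (cl ga)) [98, 1575, 0]) ≤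
      Nat.card (stabL (φS (cl ga)) [1575, 0]) :=
    stabL_step_of_check (φS (cl ga)) (k := 11) (ws := gc.map wd) [1575, 0] 98 640 14 (wsokS _)
      (himgS fun w hw => el_mem_cl (by
        simp only [gc, ga, List.mem_cons, List.not_mem_nil, or_false] at hw ⊢
        tauto)) (by decide +kernel) (by decide +kernel) (by decide +kernel)
  have hD : 3 * Nat.card (stabL (φS (cl ga)) [14, 98, 1575, 0]) ≤
      Nat.card (stabL (φS (cl ga)) [98, 1575, 0]) :=
    stabL_step_of_check (φS (cl ga)) (k := 11) (ws := [w0].map wd) [98, 1575, 0] 14 3 2 (wsokS _)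
      (himgS fun w hw => by
        simp only [List.mem_cons, List.not_mem_nil, or_false] at hw
        subst hw
        exact w0_mem (el_mem_cl (by simp [ga]))) (by decide +kernel) (by decide +kernel)
      (by decide +kernel)
  have h1 : 0 < Nat.card (stabL (φS (cl ga)) [14, 98, 1575, 0]) := Nat.card_pos
  have h0 : Nat.card (stabL (φS (cl ga)) []) ≤ Nat.card (cl ga) :=
    Nat.card_le_card_of_injective _ (Subtype.val_injective)
  omega

/-! ### The stabiliser of 0, 1575, 1 -/

theorem gc_fix {w : List Suz.Gen} (hw : w ∈ gc) : el w ∈ stabL φ [1, 1575, 0] := by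
  intro q hq
  rw [φ_el]
  have h : fixAllB (gc.map wd) [1, 1575, 0] = true := by decide +kernel
  exact fixAllB_spec (wsokS gc) h q hq _ (List.mem_map_of_mem hw)

theorem gc_le : cl gc ≤ stabL φ [1, 1575, 0] := cl_le fun w hw => gc_fix hw

theorem card_gc : 1920 ≤ Nat.card (cl gc) := by
  have hC : 640 * Nat.card (stabL (φS (cl gc)) [98]) ≤ Nat.card (stabL (φS (cl gc)) []) :=
    stabL_step_of_check (φS (cl gc)) (k := 11) (ws := gc.map wd) [] 98 640 14 (wsokS _)
      (himgS fun w hw => el_mem_cl hw) (by decide +kernel) (by decide +kernel) (by decide +kernel)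
  have hD : 3 * Nat.card (stabL (φS (cl gc)) [14, 98]) ≤
      Nat.card (stabL (φS (cl gc)) [98]) :=
    stabL_step_of_check (φS (cl gc)) (k := 11) (ws := [w0].map wd) [98] 14 3 2 (wsokS _)
      (himgS fun w hw => by
        simp only [List.mem_cons, List.not_mem_nil, or_false] at hw
        subst hw
        exact w0_mem (el_mem_cl (by simp [gc]))) (by decide +kernel) (by decide +kernel)
      (by decide +kernel)
  have h1 : 0 < Nat.card (stabL (φS (cl gc)) [14, 98]) := Nat.card_pos
  have h0 : Nat.card (stabL (φS (cl gc)) []) ≤ Nat.card (cl gc) :=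
    Nat.card_le_card_of_injective _ (Subtype.val_injective)
  omega

theorem card_stab3 : Nat.card (stabL φ [1, 1575, 0]) ≤ 1920 := by
  have h7 := step7
  have h6 := step6
  have h5 := step5
  have h0 : Nat.card (stabL φ []) ≤ Nat.card Suz :=
    Nat.card_le_card_of_injective _ (Subtype.val_injective)
  rw [card_Suz] at h0
  omega

theorem gc_eq : cl gc = stabL φ [1, 1575, 0] :=
  Subgroup.eq_of_le_of_card_ge gc_le (card_stab3.trans card_gc)

theorem stab3_le : stabL φ [1, 1575, 0] ≤ C1 := by
  rw [← gc_eq]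
  apply cl_le
  intro w hw
  simp only [gc, List.mem_cons, List.not_mem_nil, or_false] at hw
  rcases hw with rfl | rfl | rfl
  · exact d_mem
  · exact e_mem
  · exact h3_mem

theorem card_stab3_eq : Nat.card (stabL φ [1, 1575, 0]) = 1920 := by
  apply le_antisymm card_stab3
  rw [← gc_eq]; exact card_gc

/-! ### The suborbit of length 416 -/

theorem adj_of_fix {g : Suz} (hg : φ g 0 = 0) : U2.testBit (φ g 1575) = true := by
  by_contra hc
  have hu : U2 < 2 ^ 2 ^ 11 := by
    have : Nat.blt U2 (Nat.pow 2 (Nat.pow 2 11)) = true := by decide +kernel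
    exact Nat.le_of_ble_eq_true this
  have hcard : (bits (2 ^ 11) U2).card = 416 := by
    rw [← pc_eq 11 U2 hu]
    exact Nat.eq_of_beq_eq_true (by decide +kernel)
  have hT : ∀ t ∈ insert (φ g 1575) (bits (2 ^ 11) U2), ∃ h ∈ stabL φ [0], φ h 1575 = t := by
    intro t ht
    rcases Finset.mem_insert.1 ht with rfl | ht
    · exact ⟨g, fun q hq => by
        simp only [List.mem_cons, List.not_mem_nil, or_false] at hq
        subst hq; exact hg, rfl⟩
    · have h1 : t ∈ {p : ℕ | ∃ y ∈ Subgroup.closure S6, φ y 1366 = p} := by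
        rw [orb2]; exact (mem_bits.1 ht).2
      have h2 : (1575 : ℕ) ∈ {p : ℕ | ∃ y ∈ Subgroup.closure S6, φ y 1366 = p} := by
        rw [orb2]
        show U2.testBit 1575 = true
        rw [← tb_eq]
        decide +kernel
      obtain ⟨y, hy, rfl⟩ := h1
      obtain ⟨y', hy', h3⟩ := h2
      refine ⟨y * y'⁻¹, fun q hq => ?_, ?_⟩
      · simp only [List.mem_cons, List.not_mem_nil, or_false] at hq
        subst hq
        exact fix_S6 _ (Subgroup.mul_mem _ hy (Subgroup.inv_mem _ hy'))
      · rw [← h3, ← Equiv.Perm.mul_apply, ← map_mul, inv_mul_cancel_right]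
  have h1 := stabL_step φ [0] 1575 _ hT
  rw [Finset.card_insert_of_notMem (fun h => hc (mem_bits.1 h).2), hcard] at h1
  have h7 := step7
  have h5 := step5
  have h4 := step4
  have h3 := step3
  have h2 : 0 < Nat.card (stabL φ [14, 98, 1, 1575, 0]) := Nat.card_pos
  have h0 : Nat.card (stabL φ []) ≤ Nat.card Suz :=
    Nat.card_le_card_of_injective _ (Subtype.val_injective)
  rw [card_Suz] at h0
  omega

end Cfsg.Agent.SuzThree.CentA
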