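import Cfsg.Agent.SuzThree.CentA

/-!
The order of the centraliser of the involution `a` in the presented Suzuki group is a multiple of 3317760.
-/

set_option autoImplicit false
set_option maxRecDepth 100000
set_option exponentiation.threshold 4000

namespace Cfsg.Agent.SuzThree.CentB

open Cfsg.Spor Cfsg.Agent.Lib.PermNet Cfsg.Agent.Lib.PermNetOrbit Cfsg.Agent.SporadicRecognition.SuzPhi
  Cfsg.Agent.SporadicRecognition.SuzBound Cfsg.Agent.SporadicRecognition.SuzOrder
  Cfsg.Agent.SuzThree.Nets Cfsg.Agent.SuzThree.Basic Cfsg.Agent.SuzThree.Elts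
  Cfsg.Agent.SuzThree.Elementary Cfsg.Agent.SuzThree.CentA

/-- Orbit-stabiliser, exact form. -/
theorem card_stabL_eq {G : Type*} [Group G] [Finite G] (ψ : G →* Equiv.Perm ℕ) (qs : List ℕ) (p : ℕ)
    (T : Finset ℕ) (hT : ∀ t ∈ T, ∃ g ∈ stabL ψ qs, ψ g p = t)
    (hT' : ∀ g ∈ stabL ψ qs, ψ g p ∈ T) :
    Nat.card (stabL ψ qs) = T.card * Nat.card (stabL ψ (p :: qs)) := by
  classical
  apply le_antisymm _ (stabL_step ψ qs p T hT)
  choose! f hf hfp using hT
  have hm : ∀ g : stabL ψ qs, (f (ψ g p))⁻¹ * g ∈ stabL ψ (p :: qs) := by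
    intro g q hq
    have h1 := hT' g g.2
    rcases List.mem_cons.1 hq with rfl | hq
    · rw [map_mul, map_inv, Equiv.Perm.mul_apply, Equiv.Perm.inv_eq_iff_eq, hfp _ h1]
    · rw [map_mul, map_inv, Equiv.Perm.mul_apply, Equiv.Perm.inv_eq_iff_eq, g.2 q hq]
      exact (hf _ h1 q hq).symm
  have hinj : Function.Injective
      (fun g : stabL ψ qs => ((⟨ψ g p, hT' g g.2⟩, ⟨_, hm g⟩) : T × stabL ψ (p :: qs))) := by
    intro g g' h
    simp only [Prod.mk.injEq, Subtype.mk.injEq] at h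
    obtain ⟨h1, h2⟩ := h
    rw [h1] at h2
    exact Subtype.ext (mul_left_cancel h2)
  have := Nat.card_le_card_of_injective _ hinj
  rwa [Nat.card_prod, Nat.card_eq_fintype_card (α := T), Fintype.card_coe] at this

/-- The points moved by a word. -/
noncomputable def moved (k : ℕ) (w : List Net) : ℕ → ℕ :=
  Nat.rec (motive := fun _ => ℕ) 0
    (fun b ih => Nat.lor (Nat.xor (plane k b) (appWord w (plane k b))) ih)

theorem moved_succ (k : ℕ) (w : List Net) (m : ℕ) : moved k w (m + 1) =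
    (plane k m ^^^ appWord w (plane k m)) ||| moved k w m := rfl

theorem moved_spec {k : ℕ} {w : List Net} (hw : WOk (2 ^ k) w) {m p : ℕ}
    (h : (moved k w m).testBit p = true) : wperm w p ≠ p := by
  induction m with
  | zero =>
    have h' : (0 : ℕ).testBit p = true := h
    rw [Nat.zero_testBit] at h'; exact absurd h' (by simp)
  | succ m ih =>
    rw [moved_succ, Nat.testBit_or, Bool.or_eq_true] at h
    rcases h with h | h
    · intro he
      rw [Nat.testBit_xor, testBit_appWord hw, he, Bool.xor_self] at h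
      exact absurd h (by simp)
    · exact ih h

/-- orbit of 0 -/
noncomputable def F : ℕ := sat (ga.map wd) 12 (Nat.pow 2 0)
/-- orbit of 1575 -/
noncomputable def F1 : ℕ := sat (gb.map wd) 12 (Nat.pow 2 1575)

theorem chkF : Nat.beq (Nat.land (Nat.lor (moved 11 (wd [.a]) 11) F) U0) U0 = true := by decide +kernel
theorem chkF1 : Nat.beq (Nat.land F U2) F1 = true := by decide +kernel
theorem pcF : Nat.beq (pc 11 F) 54 = true := by decide +kernel
theorem pcF1 : Nat.beq (pc 11 F1) 32 = true := by decide +kernel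
theorem ltF : Nat.beq (Nat.shiftRight F (Nat.pow 2 11)) 0 = true := by decide +kernel
theorem ltF1 : Nat.beq (Nat.shiftRight F1 (Nat.pow 2 11)) 0 = true := by decide +kernel

theorem lt_of_chk {X : ℕ} (h : Nat.beq (Nat.shiftRight X (Nat.pow 2 11)) 0 = true) :
    X < 2 ^ 2 ^ 11 := by
  have h1 : X >>> 2 ^ 11 = 0 := Nat.eq_of_beq_eq_true h
  rw [Nat.shiftRight_eq_div_pow] at h1
  exact (Nat.div_eq_zero_iff_lt (by positivity)).1 h1

theorem cardF : (bits (2 ^ 11) F).card = 54 := by
  rw [← pc_eq 11 F (lt_of_chk ltF)]; exact Nat.eq_of_beq_eq_true pcF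

theorem cardF1 : (bits (2 ^ 11) F1).card = 32 := by
  rw [← pc_eq 11 F1 (lt_of_chk ltF1)]; exact Nat.eq_of_beq_eq_true pcF1

theorem mem_F_of_fix {p : ℕ} (hp : p < 1782) (h : φ z0 p = p) : F.testBit p = true := by
  have h1 : ((moved 11 (wd [.a]) 11 ||| F) &&& U0).testBit p = true := by
    have : (moved 11 (wd [.a]) 11 ||| F) &&& U0 = U0 := Nat.eq_of_beq_eq_true chkF
    rw [this, U0_bits, decide_eq_true_eq]; exact hp
  rw [Nat.testBit_and, Nat.testBit_or, Bool.and_eq_true, Bool.or_eq_true] at h1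
  rcases h1.1 with h2 | h2
  · exfalso
    have h3 := moved_spec (wd_ok [.a]) h2
    apply h3
    have := φ_el [.a]
    rw [← this]
    exact h
  · exact h2

theorem z0_fix0 : φ z0 0 = 0 := (Rep.el [.a]).pt (by decide +kernel)
theorem z0_fix1 : φ z0 1575 = 1575 := (Rep.el [.a]).pt (by decide +kernel)

theorem fix_of_C1 {c : Suz} (hc : c ∈ C1) {p : ℕ} (hp : φ z0 p = p) : φ z0 (φ c p) = φ c p := by
  rw [← Equiv.Perm.mul_apply, ← map_mul, ← mem_C1.1 hc, map_mul, Equiv.Perm.mul_apply, hp]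

theorem card_C1_0 : Nat.card (stabL (φS C1) []) = 54 * Nat.card (stabL (φS C1) [0]) := by
  rw [← cardF]
  apply card_stabL_eq
  · intro t ht
    have h2 : F.testBit t = true := (mem_bits.1 ht).2
    obtain ⟨g, ⟨c, hc, rfl⟩, hg⟩ := sat_point_spec (K := C1.map φ) (wsokS ga) (fun w hw => by
      obtain ⟨u, hu, rfl⟩ := List.mem_map.1 hw
      exact ⟨el u, ga_le (el_mem_cl hu), φ_el u⟩) 12 h2
    exact ⟨⟨c, hc⟩, fun q hq => absurd hq (by simp), hg⟩
  · intro g _
    rw [mem_bits]
    have h1 := fix_of_C1 g.2 z0_fix0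
    have h2 : φ g 0 < 1782 := φ_lt 0 (by norm_num)
    exact ⟨lt_of_lt_of_le h2 (by norm_num), mem_F_of_fix h2 h1⟩

theorem card_C1_1 : Nat.card (stabL (φS C1) [0]) = 32 * Nat.card (stabL (φS C1) [1575, 0]) := by
  rw [← cardF1]
  apply card_stabL_eq
  · intro t ht
    have h2 : F1.testBit t = true := (mem_bits.1 ht).2
    obtain ⟨g, ⟨c, hc, rfl⟩, hg⟩ := sat_point_spec (K := (C1 ⊓ stabL φ [0]).map φ) (wsokS gb)
      (fun w hw => by
        obtain ⟨u, hu, rfl⟩ := List.mem_map.1 hw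
        refine ⟨el u, ⟨ga_le (el_mem_cl ?_), ?_⟩, φ_el u⟩
        · simp only [gb, ga, List.mem_cons, List.not_mem_nil, or_false] at hu ⊢
          tauto
        · intro q hq
          rw [φ_el]
          have h : fixAllB (gb.map wd) [0] = true := by decide +kernel
          exact fixAllB_spec (wsokS gb) h q hq _ (List.mem_map_of_mem hu)) 12 h2
    exact ⟨⟨c, hc.1⟩, hc.2, hg⟩
  · intro g hg
    rw [mem_bits]
    have h0 : φ g 0 = 0 := hg 0 (by simp)
    have h1 := fix_of_C1 g.2 z0_fix1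
    have h2 : φ g 1575 < 1782 := φ_lt 1575 (by norm_num)
    have h3 := mem_F_of_fix h2 h1
    have h4 := adj_of_fix h0
    refine ⟨lt_of_lt_of_le h2 (by norm_num), ?_⟩
    have h5 : F &&& U2 = F1 := Nat.eq_of_beq_eq_true chkF1
    show F1.testBit (φ g 1575) = true
    rw [← h5, Nat.testBit_and, h3, h4]; rfl

theorem dvd_card_C1 : 3317760 ∣ Nat.card C1 := by
  have h0 : Nat.card (stabL (φS C1) []) = Nat.card C1 := by
    have : stabL (φS C1) [] = ⊤ := by
      rw [eq_top_iff]; intro g _ q hq; exact absurd hq (by simp)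
    rw [this, Subgroup.card_top]
  have h1 : 1920 ∣ Nat.card (stabL (φS C1) [1575, 0]) := by
    have h2 : (stabL φ [1, 1575, 0]).subgroupOf C1 ≤ stabL (φS C1) [1575, 0] := by
      intro g hg q hq
      exact (Subgroup.mem_subgroupOf.1 hg) q (List.mem_cons_of_mem _ hq)
    have h3 : Nat.card ((stabL φ [1, 1575, 0]).subgroupOf C1) = 1920 := by
      rw [Nat.card_congr (Subgroup.subgroupOfEquivOfLe stab3_le).toEquiv, card_stab3_eq]
    rw [← h3]
    exact Subgroup.card_dvd_of_le h2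
  rw [← h0, card_C1_0, card_C1_1, show 3317760 = 54 * (32 * 1920) by norm_num]
  exact Nat.mul_dvd_mul_left _ (Nat.mul_dvd_mul_left _ h1)

/-- If the order of the centraliser divides 2 ^ 14 * 3 ^ 4 * 5, it is 3317760 and it is generated by the five words. -/
theorem card_C1_of (h : Nat.card C1 ∣ 6635520) : Nat.card C1 = 3317760 := by
  obtain ⟨k, hk⟩ := dvd_card_C1
  have h1 : Nat.card C1 ∣ 448345497600 := by
    rw [← card_Suz]; exact Subgroup.card_subgroup_dvd_card _
  have h2 : Nat.card C1 ∣ Nat.gcd 6635520 448345497600 := Nat.dvd_gcd h h1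
  have h3 : Nat.gcd 6635520 448345497600 = 3317760 := by norm_num
  rw [h3] at h2
  exact Nat.dvd_antisymm h2 dvd_card_C1

theorem cl_ga_eq (h : Nat.card C1 = 3317760) : cl ga = C1 :=
  Subgroup.eq_of_le_of_card_ge ga_le (by rw [h]; exact card_ga)

end Cfsg.Agent.SuzThree.CentB
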