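import Cfsg.Agent.SuzThree.Elementary

/-!
Linear maps of F_3^5 preserving the eleven special lines and fixing four of them are scalar.
-/

set_option autoImplicit false
set_option maxRecDepth 100000

namespace Cfsg.Agent.SuzThree.Comb

open Cfsg.Agent.SuzThree.Elts Cfsg.Agent.SuzThree.Elementary

/-- special vectors -/
def isSp (v : V) : Prop := ∃ g : Ix, v = vec g ∨ v = -vec g

instance (v : V) : Decidable (isSp v) := by unfold isSp; infer_instance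

theorem comb1 : ∀ s0 s1 s2 s3 : ZMod 3, s0 ≠ 0 → s1 ≠ 0 → s2 ≠ 0 → s3 ≠ 0 →
    isSp (s0, 2 * s1, 2 * s2, 2 * s3, 0) → s1 = s0 ∧ s2 = s0 ∧ s3 = s0 := by decide +kernel

/-- image of `(a, b, c, d, e)` -/
def im (s : ZMod 3) (t : V) (v : V) : V :=
  (s * v.1 + v.2.2.2.2 * t.1, s * v.2.1 + v.2.2.2.2 * t.2.1, s * v.2.2.1 + v.2.2.2.2 * t.2.2.1,
    s * v.2.2.2.1 + v.2.2.2.2 * t.2.2.2.1, v.2.2.2.2 * t.2.2.2.2)

theorem comb2 : ∀ (s : ZMod 3) (g : Ix) (b : Bool), s ≠ 0 →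
    isSp (im s (cond b (vec g) (-vec g)) (vec .i6)) →
    isSp (im s (cond b (vec g) (-vec g)) (vec .i7)) →
    isSp (im s (cond b (vec g) (-vec g)) (vec .i8)) →
    isSp (im s (cond b (vec g) (-vec g)) (vec .i9)) →
    isSp (im s (cond b (vec g) (-vec g)) (vec .i10)) →
    cond b (vec g) (-vec g) = (0, 0, 0, 0, s) := by decide +kernel

theorem decomp (L : V →+ V) (v : V) :
    L v = v.1 • L (vec .i0) + v.2.1 • L (vec .i1) + v.2.2.1 • L (vec .i2) +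
      v.2.2.2.1 • L (vec .i3) + v.2.2.2.2 • L (vec .i4) := by
  have h : ∀ (c : ZMod 3) (w : V), L (c • w) = c • L w := fun c w => by
    have := (L.toZModLinearMap 3).map_smul c w
    exact this
  rw [← h, ← h, ← h, ← h, ← h, ← map_add, ← map_add, ← map_add, ← map_add]
  congr 1
  obtain ⟨a, b, c, d, e⟩ := v
  simp [vec]

theorem main (L : V →+ V) (hL : ∀ f, isSp (L (vec f)))
    (h0 : L (vec .i0) = vec .i0 ∨ L (vec .i0) = -vec .i0)
    (h1 : L (vec .i1) = vec .i1 ∨ L (vec .i1) = -vec .i1)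
    (h2 : L (vec .i2) = vec .i2 ∨ L (vec .i2) = -vec .i2)
    (h3 : L (vec .i3) = vec .i3 ∨ L (vec .i3) = -vec .i3) :
    (∀ v, L v = v) ∨ (∀ v, L v = -v) := by
  have hs : ∀ {w u : V}, (u = w ∨ u = -w) → ∃ s : ZMod 3, s ≠ 0 ∧ u = s • w := by
    intro w u h
    rcases h with h | h
    · exact ⟨1, by decide, by rw [h, one_smul]⟩
    · exact ⟨-1, by decide, by rw [h, neg_smul, one_smul]⟩
  obtain ⟨s0, n0, e0⟩ := hs h0
  obtain ⟨s1, n1, e1⟩ := hs h1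
  obtain ⟨s2, n2, e2⟩ := hs h2
  obtain ⟨s3, n3, e3⟩ := hs h3
  have h5 := hL .i5
  rw [decomp, e0, e1, e2, e3] at h5
  have e5 : (vec .i5).1 • s0 • vec .i0 + (vec .i5).2.1 • s1 • vec .i1 +
      (vec .i5).2.2.1 • s2 • vec .i2 + (vec .i5).2.2.2.1 • s3 • vec .i3 +
      (vec .i5).2.2.2.2 • L (vec .i4) = (s0, 2 * s1, 2 * s2, 2 * s3, 0) := by
    simp [vec]
  rw [e5] at h5
  obtain ⟨r1, r2, r3⟩ := comb1 s0 s1 s2 s3 n0 n1 n2 n3 h5
  rw [r1] at e1
  rw [r2] at e2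
  rw [r3] at e3
  obtain ⟨g, b, h4⟩ : ∃ (g : Ix) (b : Bool), L (vec .i4) = cond b (vec g) (-vec g) := by
    obtain ⟨g, hg | hg⟩ := hL .i4
    · exact ⟨g, true, hg⟩
    · exact ⟨g, false, hg⟩
  have him : ∀ v, L v = im s0 (L (vec .i4)) v := by
    intro v
    rw [decomp, e0, e1, e2, e3]
    obtain ⟨a, b, c, d, e⟩ := v
    obtain ⟨t0, t1, t2, t3, t4⟩ := L (vec .i4)
    simp [vec, im, mul_comm]
  have hh : ∀ f, isSp (im s0 (cond b (vec g) (-vec g)) (vec f)) := by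
    intro f
    rw [← h4, ← him]
    exact hL f
  have h6 := comb2 s0 g b n0 (hh _) (hh _) (hh _) (hh _) (hh _)
  have h7 : ∀ v, L v = s0 • v := by
    intro v
    rw [him, h4, h6]
    obtain ⟨a, b, c, d, e⟩ := v
    simp [im, mul_comm]
  have h9 : ∀ s : ZMod 3, s ≠ 0 → s = 1 ∨ s = -1 := by decide
  have h8 : s0 = 1 ∨ s0 = -1 := h9 s0 n0
  rcases h8 with h8 | h8
  · left; intro v; rw [h7, h8, one_smul]
  · right; intro v; rw [h7, h8, neg_smul, one_smul]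

end Cfsg.Agent.SuzThree.Comb
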