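import Cfsg.Agent.SuzThree.Elts
import Cfsg.Prelude.Def_Transfer

/-!
The elementary abelian subgroup of order 3^5 of the Suzuki group, its orbits on the 1782 points, and its elements with
fixed points.
-/

set_option autoImplicit false
set_option maxRecDepth 100000

namespace Cfsg.Agent.SuzThree.Elementary

open Cfsg.Spor Cfsg.Agent.Lib.PermNet Cfsg.Agent.Lib.PermNetOrbit Cfsg.Agent.SporadicRecognition.SuzPhi
  Cfsg.Agent.SporadicRecognition.SuzBound Cfsg.Agent.SporadicRecognition.SuzOrder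
  Cfsg.Agent.SuzThree.Nets Cfsg.Agent.SuzThree.Basic Cfsg.Agent.SuzThree.Elts

/-- exponent vectors -/
abbrev V : Type := ZMod 3 × ZMod 3 × ZMod 3 × ZMod 3 × ZMod 3

/-- coordinates of the special elements -/
def vec : Ix → V
  | .i0 => (1, 0, 0, 0, 0)
  | .i1 => (0, 1, 0, 0, 0)
  | .i2 => (0, 0, 1, 0, 0)
  | .i3 => (0, 0, 0, 1, 0)
  | .i4 => (0, 0, 0, 0, 1)
  | .i5 => (1, 2, 2, 2, 0)
  | .i6 => (2, 0, 2, 1, 2)
  | .i7 => (0, 2, 1, 1, 1)
  | .i8 => (2, 2, 2, 0, 1)
  | .i9 => (1, 1, 2, 1, 1)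
  | .i10 => (2, 1, 0, 2, 1)

theorem pow_three_aux (f : Ix) (h : checkEq 11 [xN f, xN f, xN f] [] = true) : x f ^ 3 = 1 := by
  have hr := rep_x f
  have h1 : Rep (x f ^ 3) [xN f, xN f, xN f] := by
    rw [pow_succ, pow_two]
    exact (hr.mul hr).mul hr
  exact eq_of_reps h1 Rep.one h

theorem p0 : x .i0 ^ 3 = 1 := pow_three_aux _ (by decide +kernel)
theorem p1 : x .i1 ^ 3 = 1 := pow_three_aux _ (by decide +kernel)
theorem p2 : x .i2 ^ 3 = 1 := pow_three_aux _ (by decide +kernel)
theorem p3 : x .i3 ^ 3 = 1 := pow_three_aux _ (by decide +kernel)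
theorem p4 : x .i4 ^ 3 = 1 := pow_three_aux _ (by decide +kernel)

theorem comm_aux {f g : Ix} (h : checkEq 11 [xN f, xN g] [xN g, xN f] = true) :
    Commute (x f) (x g) :=
  eq_of_reps ((rep_x f).mul (rep_x g)) ((rep_x g).mul (rep_x f)) h

theorem c01 : Commute (x .i0) (x .i1) := comm_aux (by decide +kernel)
theorem c02 : Commute (x .i0) (x .i2) := comm_aux (by decide +kernel)
theorem c03 : Commute (x .i0) (x .i3) := comm_aux (by decide +kernel)
theorem c04 : Commute (x .i0) (x .i4) := comm_aux (by decide +kernel)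
theorem c12 : Commute (x .i1) (x .i2) := comm_aux (by decide +kernel)
theorem c13 : Commute (x .i1) (x .i3) := comm_aux (by decide +kernel)
theorem c14 : Commute (x .i1) (x .i4) := comm_aux (by decide +kernel)
theorem c23 : Commute (x .i2) (x .i3) := comm_aux (by decide +kernel)
theorem c24 : Commute (x .i2) (x .i4) := comm_aux (by decide +kernel)
theorem c34 : Commute (x .i3) (x .i4) := comm_aux (by decide +kernel)

/-- the element with given exponents -/
noncomputable def E (v : V) : Suz :=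
  x .i0 ^ v.1.val * (x .i1 ^ v.2.1.val * (x .i2 ^ v.2.2.1.val *
    (x .i3 ^ v.2.2.2.1.val * x .i4 ^ v.2.2.2.2.val)))

theorem pow_val_add {g : Suz} (h : g ^ 3 = 1) (s t : ZMod 3) :
    g ^ (s + t).val = g ^ s.val * g ^ t.val := by
  rw [ZMod.val_add, ← pow_add, ← pow_eq_pow_mod _ h]

theorem step_aux {g P Q : Suz} (h : g ^ 3 = 1) (hc : Commute g P) (s t : ZMod 3) :
    g ^ (s + t).val * (P * Q) = (g ^ s.val * P) * (g ^ t.val * Q) := by
  rw [pow_val_add h]
  have h1 : g ^ t.val * P = P * g ^ t.val := (hc.pow_left _)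
  rw [mul_assoc, mul_assoc, ← mul_assoc (g ^ t.val) P Q, h1]
  simp only [mul_assoc]

theorem E_add (v w : V) : E (v + w) = E v * E w := by
  obtain ⟨v0, v1, v2, v3, v4⟩ := v
  obtain ⟨w0, w1, w2, w3, w4⟩ := w
  simp only [E, Prod.mk_add_mk]
  rw [pow_val_add p4 v4 w4]
  rw [step_aux p3 (c34.pow_right _) v3 w3]
  rw [step_aux p2 ((c23.pow_right _).mul_right (c24.pow_right _)) v2 w2]
  rw [step_aux p1 ((c12.pow_right _).mul_right ((c13.pow_right _).mul_right (c14.pow_right _))) v1 w1]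
  rw [step_aux p0 ((c01.pow_right _).mul_right ((c02.pow_right _).mul_right
    ((c03.pow_right _).mul_right (c04.pow_right _)))) v0 w0]

theorem E_zero : E 0 = 1 := by
  have h := E_add 0 0
  rw [add_zero] at h
  exact (mul_eq_left.mp h.symm)

theorem E_neg (v : V) : E (-v) = (E v)⁻¹ := by
  apply eq_inv_of_mul_eq_one_left
  rw [← E_add, neg_add_cancel, E_zero]

/-- the homomorphism -/
noncomputable def EH : Multiplicative V →* Suz :=
  MonoidHom.mk' (fun v => E (Multiplicative.toAdd v)) (fun v w => E_add _ _)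

theorem EH_apply (v : Multiplicative V) : EH v = E (Multiplicative.toAdd v) := rfl

/-- the subgroup -/
noncomputable def A0 : Subgroup Suz := EH.range

theorem mem_A0 {a : Suz} : a ∈ A0 ↔ ∃ v : V, E v = a := by
  constructor
  · rintro ⟨v, rfl⟩; exact ⟨_, rfl⟩
  · rintro ⟨v, rfl⟩; exact ⟨Multiplicative.ofAdd v, rfl⟩

theorem E_mem (v : V) : E v ∈ A0 := mem_A0.2 ⟨v, rfl⟩

theorem E_comm (v w : V) : E v * E w = E w * E v := by
  rw [← E_add, ← E_add, add_comm]

theorem comm_A0 {a b : Suz} (ha : a ∈ A0) (hb : b ∈ A0) : a * b = b * a := by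
  obtain ⟨v, rfl⟩ := mem_A0.1 ha
  obtain ⟨w, rfl⟩ := mem_A0.1 hb
  exact E_comm v w

theorem three_nsmul_V (v : V) : v + v + v = 0 := by
  obtain ⟨a, b, c, d, e⟩ := v
  have h : ∀ a : ZMod 3, a + a + a = 0 := by decide
  simp only [Prod.mk_add_mk, h]
  rfl

theorem cube_A0 {a : Suz} (ha : a ∈ A0) : a ^ 3 = 1 := by
  obtain ⟨v, rfl⟩ := mem_A0.1 ha
  rw [pow_succ, pow_two, ← E_add, ← E_add, three_nsmul_V, E_zero]

/-- power of one network -/
noncomputable def rw3 (L : Net) (t : ZMod 3) : List Net := List.replicate t.val L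

theorem rep_pow {g : Suz} {L : Net} (h : Rep g [L]) (n : ℕ) : Rep (g ^ n) (List.replicate n L) := by
  induction n with
  | zero => rw [pow_zero]; exact Rep.one
  | succ n ih => rw [pow_succ']; exact h.mul ih

/-- word of `E v` -/
noncomputable def eW (v : V) : List Net :=
  rw3 x0N v.1 ++ (rw3 x1N v.2.1 ++ (rw3 x2N v.2.2.1 ++ (rw3 x3N v.2.2.2.1 ++ rw3 x4N v.2.2.2.2)))

theorem rep_E (v : V) : Rep (E v) (eW v) :=
  (rep_pow (rep_x .i0) _).mul ((rep_pow (rep_x .i1) _).mul ((rep_pow (rep_x .i2) _).mul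
    ((rep_pow (rep_x .i3) _).mul (rep_pow (rep_x .i4) _))))

theorem x_eq (f : Ix) : x f = E (vec f) := by
  apply eq_of_reps (rep_x f) (rep_E _)
  cases f
  · decide +kernel
  · decide +kernel
  · decide +kernel
  · decide +kernel
  · decide +kernel
  · decide +kernel
  · decide +kernel
  · decide +kernel
  · decide +kernel
  · decide +kernel
  · decide +kernel

theorem x_mem (f : Ix) : x f ∈ A0 := by rw [x_eq]; exact E_mem _

/-! ### Orbits -/

/-- generators of `A0` as words -/
noncomputable def ws5 : List (List Net) := [[x0N], [x1N], [x2N], [x3N], [x4N]]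

theorem ws5_x {w : List Net} (hw : w ∈ ws5) : ∃ f : Ix, w = [xN f] := by
  simp only [ws5, List.mem_cons, List.not_mem_nil, or_false] at hw
  rcases hw with rfl | rfl | rfl | rfl | rfl
  · exact ⟨.i0, rfl⟩
  · exact ⟨.i1, rfl⟩
  · exact ⟨.i2, rfl⟩
  · exact ⟨.i3, rfl⟩
  · exact ⟨.i4, rfl⟩

theorem ws5_ok : WsOk (2 ^ 11) ws5 := by
  intro w hw
  obtain ⟨f, rfl⟩ := ws5_x hw
  exact xok f

theorem ws5_mem {w : List Net} (hw : w ∈ ws5) : wperm w ∈ A0.map φ := by
  obtain ⟨f, rfl⟩ := ws5_x hw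
  exact ⟨x f, x_mem f, (rep_x f).eq⟩

/-- the action of `A0` -/
noncomputable def φA : A0 →* Equiv.Perm ℕ := φ.comp A0.subtype

theorem ws5_img : ∀ w ∈ ws5, ∃ g : A0, φA g = wperm w := by
  intro w hw
  obtain ⟨f, rfl⟩ := ws5_x hw
  exact ⟨⟨x f, x_mem f⟩, (rep_x f).eq⟩

theorem card_A0_le : Nat.card A0 ≤ 243 := by
  have h : Nat.card EH.range ≤ Nat.card (Multiplicative V) :=
    Nat.card_le_card_of_surjective EH.rangeRestrict EH.rangeRestrict_surjective
  have h2 : Nat.card (Multiplicative V) = 243 := by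
    rw [Nat.card_eq_fintype_card]; decide +kernel
  rw [h2] at h
  exact h

theorem x0_img : ∀ w ∈ [[x0N]], ∃ g : A0, φA g = wperm w := by
  intro w hw
  simp only [List.mem_cons, List.not_mem_nil, or_false] at hw
  subst hw
  exact ⟨⟨x .i0, x_mem _⟩, (rep_x .i0).eq⟩

theorem card_A0_ge : 243 ≤ Nat.card A0 := by
  have h1 : 81 * Nat.card (stabL φA [0]) ≤ Nat.card (stabL φA []) :=
    stabL_step_of_check φA (k := 11) [] 0 81 2 ws5_ok ws5_img (by decide +kernel)
      (by decide +kernel) (by decide +kernel)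
  have h2 : 3 * Nat.card (stabL φA [14, 0]) ≤ Nat.card (stabL φA [0]) :=
    stabL_step_of_check φA (k := 11) (ws := [[x0N]]) [0] 14 3 2 (by
      intro w hw
      simp only [List.mem_cons, List.not_mem_nil, or_false] at hw
      subst hw
      exact xok .i0) x0_img (by decide +kernel)
      (by decide +kernel) (by decide +kernel)
  have h3 : 0 < Nat.card (stabL φA [14, 0]) := Nat.card_pos
  have h0 : Nat.card (stabL φA []) ≤ Nat.card A0 :=
    Nat.card_le_card_of_injective _ (Subtype.val_injective)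
  omega

theorem card_A0 : Nat.card A0 = 243 := le_antisymm card_A0_le card_A0_ge

theorem E_injective : Function.Injective E := by
  have h1 : Function.Bijective EH.rangeRestrict := by
    rw [Nat.bijective_iff_surjective_and_card]
    refine ⟨EH.rangeRestrict_surjective, ?_⟩
    have h2 : Nat.card (Multiplicative V) = 243 := by
      rw [Nat.card_eq_fintype_card]; decide +kernel
    rw [h2]
    exact card_A0.symm
  intro v w h
  have h3 : EH.rangeRestrict (Multiplicative.ofAdd v) = EH.rangeRestrict (Multiplicative.ofAdd w) :=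
    Subtype.ext h
  exact Multiplicative.ofAdd.injective (h1.1 h3)

/-- representatives of the orbits, with the index of the stabiliser -/
def reps : List (ℕ × Ix) :=
  [(0, .i0), (6, .i0), (14, .i2), (23, .i1), (25, .i5), (27, .i4), (33, .i4), (38, .i2), (41, .i3), (43, .i7), (45, .i1), (46, .i8), (48, .i9), (56, .i8), (57, .i10), (61, .i5), (63, .i6), (65, .i7), (72, .i6), (74, .i3), (76, .i9), (77, .i10)]

/-- the orbit of a point under `A0` -/
noncomputable def orb (p : ℕ) : ℕ := sat ws5 2 (Nat.pow 2 p)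

/-- the check for one representative -/
noncomputable def rchk (a : ℕ × Ix) : Bool :=
  and (Nat.ble 81 (pc 11 (orb a.1))) (and (Nat.beq (Nat.shiftRight (orb a.1) (Nat.pow 2 11)) 0)
    (mv [xN a.2] a.1 a.1))

/-- all representatives -/
noncomputable def rchkL (l : List (ℕ × Ix)) : Bool :=
  List.rec (motive := fun _ => Bool) true (fun a _ ih => and (rchk a) ih) l

theorem rchkL_spec {l : List (ℕ × Ix)} (h : rchkL l = true) : ∀ a ∈ l, rchk a = true := by
  induction l with
  | nil => intro a ha; exact absurd ha (by simp)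
  | cons b l ih =>
    have h' : and (rchk b) (rchkL l) = true := h
    rw [Bool.and_eq_true] at h'
    intro a ha
    rcases List.mem_cons.1 ha with rfl | ha
    · exact h'.1
    · exact ih h'.2 a ha

/-- union of orbits -/
noncomputable def cover (l : List (ℕ × Ix)) : ℕ :=
  List.rec (motive := fun _ => ℕ) 0 (fun a _ ih => Nat.lor (orb a.1) ih) l

theorem cover_spec {l : List (ℕ × Ix)} {p : ℕ} (h : (cover l).testBit p = true) :
    ∃ a ∈ l, (orb a.1).testBit p = true := by
  induction l with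
  | nil =>
    have h' : (0 : ℕ).testBit p = true := h
    rw [Nat.zero_testBit] at h'; exact absurd h' (by simp)
  | cons b l ih =>
    have h' : (orb b.1 ||| cover l).testBit p = true := h
    rw [Nat.testBit_or, Bool.or_eq_true] at h'
    rcases h' with h' | h'
    · exact ⟨b, List.mem_cons_self, h'⟩
    · obtain ⟨a, ha, h''⟩ := ih h'
      exact ⟨a, List.mem_cons_of_mem _ ha, h''⟩

theorem reps_ok : rchkL reps = true := by decide +kernel

theorem reps_cover : Nat.beq (cover reps) U0 = true := by decide +kernel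

theorem exists_rep {p : ℕ} (hp : p < 1782) : ∃ a ∈ reps, ∃ b ∈ A0, φ b a.1 = p := by
  have h1 : (cover reps).testBit p = true := by
    rw [Nat.eq_of_beq_eq_true reps_cover, U0_bits, decide_eq_true_eq]; exact hp
  obtain ⟨a, ha, h2⟩ := cover_spec h1
  obtain ⟨g, ⟨b, hb, rfl⟩, hg⟩ := sat_point_spec (K := A0.map φ) ws5_ok (fun w hw => ws5_mem hw) 2 h2
  exact ⟨a, ha, b, hb, hg⟩

theorem orderOf_x (f : Ix) : orderOf (x f) = 3 := by
  refine orderOf_eq_prime (cube_A0 (x_mem f)) ?_
  rw [x_eq, ← E_zero]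
  intro h
  have h1 := E_injective h
  revert h1
  cases f <;> decide

/-- stabilisers in `A0` of the representatives -/
theorem stab_rep {a : ℕ × Ix} (ha : a ∈ reps) {b : Suz} (hb : b ∈ A0) (h : φ b a.1 = a.1) :
    b ∈ Subgroup.zpowers (x a.2) := by
  have hc := rchkL_spec reps_ok a ha
  simp only [rchk, Bool.and_eq_true] at hc
  obtain ⟨h1, h2, h3⟩ := hc
  have h4 : 81 * Nat.card (stabL φA [a.1]) ≤ Nat.card (stabL φA []) :=
    stabL_step_of_check φA (k := 11) [] a.1 81 2 ws5_ok ws5_img (by decide +kernel) h1 h2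
  have h0 : Nat.card (stabL φA []) ≤ Nat.card A0 :=
    Nat.card_le_card_of_injective _ (Subtype.val_injective)
  rw [card_A0] at h0
  have h5 : Nat.card (stabL φA [a.1]) ≤ 3 := by omega
  have hx : φ (x a.2) a.1 = a.1 := (rep_x a.2).pt h3
  have h6 : Subgroup.zpowers (⟨x a.2, x_mem _⟩ : A0) ≤ stabL φA [a.1] := by
    rw [Subgroup.zpowers_le]
    intro q hq
    simp only [List.mem_cons, List.not_mem_nil, or_false] at hq
    subst hq
    exact hx
  have h7 : Nat.card (Subgroup.zpowers (⟨x a.2, x_mem _⟩ : A0)) = 3 := by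
    rw [Nat.card_zpowers, ← orderOf_x a.2]
    exact (Subgroup.orderOf_mk _ _)
  have h8 := Subgroup.eq_of_le_of_card_ge h6 (by rw [h7]; exact h5)
  have h9 : (⟨b, hb⟩ : A0) ∈ stabL φA [a.1] := by
    intro q hq
    simp only [List.mem_cons, List.not_mem_nil, or_false] at hq
    subst hq
    exact h
  rw [← h8] at h9
  obtain ⟨k, hk⟩ := Subgroup.mem_zpowers_iff.1 h9
  exact Subgroup.mem_zpowers_iff.2 ⟨k, by simpa using congrArg Subtype.val hk⟩

theorem mem_zpowers_x {f : Ix} {b : Suz} (h : b ∈ Subgroup.zpowers (x f)) :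
    b = 1 ∨ b = x f ∨ b = (x f)⁻¹ := by
  obtain ⟨k, rfl⟩ := Subgroup.mem_zpowers_iff.1 h
  have h1 : x f ^ k = x f ^ (k % 3) := by
    have h := zpow_mod_orderOf (x f) k
    rw [orderOf_x] at h
    exact h.symm
  have h2 := Int.emod_nonneg k (by norm_num : (3 : ℤ) ≠ 0)
  have h3 := Int.emod_lt_of_pos k (by norm_num : (0 : ℤ) < 3)
  have hc : x f ^ 3 = 1 := cube_A0 (x_mem f)
  rw [h1]
  obtain ⟨m, hm⟩ : ∃ m : ℤ, k % 3 = m := ⟨_, rfl⟩
  rw [hm] at h2 h3 ⊢
  interval_cases m
  · left; rw [zpow_zero]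
  · right; left; rw [zpow_one]
  · right; right
    rw [eq_comm, inv_eq_iff_mul_eq_one]
    have : (x f : Suz) ^ (2 : ℤ) = x f ^ 2 := by norm_cast
    rw [this, ← pow_succ']
    exact hc

end Cfsg.Agent.SuzThree.Elementary
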