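import Cfsg.Agent.SuzThree.Basic

/-!
The eleven subgroups of order 3 of the elementary abelian group of order 3^5 in the Suzuki group: generators as words
and as swap networks.
-/

set_option autoImplicit false
set_option maxRecDepth 100000

namespace Cfsg.Agent.SuzThree.Elts

open Cfsg.Spor Cfsg.Agent.Lib.PermNet Cfsg.Agent.Lib.PermNetOrbit Cfsg.Agent.SporadicRecognition.SuzPhi
  Cfsg.Agent.SporadicRecognition.SuzBound Cfsg.Agent.SporadicRecognition.SuzOrder
  Cfsg.Agent.SuzThree.Nets Cfsg.Agent.SuzThree.Basic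

/-- indices of the eleven special subgroups -/
inductive Ix : Type
  | i0 | i1 | i2 | i3 | i4 | i5 | i6 | i7 | i8 | i9 | i10
  deriving DecidableEq

instance : Fintype Ix where
  elems := {.i0, .i1, .i2, .i3, .i4, .i5, .i6, .i7, .i8, .i9, .i10}
  complete := by intro f; cases f <;> simp

theorem card_Ix : Fintype.card Ix = 11 := rfl

/-- the word of the generator of the stabiliser of the points 0, 1575, 1, 98 -/
def w0 : List Suz.Gen :=
  [.d, .c, .d, .b, .c, .d, .c, .b, .a, .b, .c, .d, .a, .b, .c, .b, .a, .b, .a]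

/-- conjugating words -/
def uw : Ix → List Suz.Gen
  | .i0 => []
  | .i1 => [.e, .d, .c, .a, .b, .f, .g, .d, .c, .d, .e, .d, .c, .d, .b, .c, .d, .e]
  | .i2 => [.g, .e, .d, .c, .b, .f, .g, .d, .c, .d, .e, .d, .c, .d, .b, .c, .d, .e]
  | .i3 => [.e, .d, .c, .d, .c, .b, .f, .g, .c, .d, .e, .d, .c, .d, .b, .c, .d, .e]
  | .i4 => [.f, .e, .d, .c, .b, .g, .c, .b, .f, .d, .c, .d, .e, .d, .c, .d, .b, .c, .d, .e]
  | .i5 => [.g, .e, .c, .d, .c, .b, .f, .g, .d, .c, .d, .e, .d, .c, .d, .b, .c, .d, .e]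
  | .i6 => [.f, .e, .b, .c, .d, .c, .b, .g, .f, .d, .c, .d, .e, .d, .c, .d, .b, .c, .d, .e]
  | .i7 => [.e, .a, .b, .c, .d, .c, .b, .f, .g, .d, .c, .d, .e, .d, .c, .d, .b, .c, .d, .e]
  | .i8 => [.f, .e, .c, .d, .c, .b, .g, .c, .b, .f, .d, .c, .d, .e, .d, .c, .d, .b, .c, .d, .e]
  | .i9 => [.b, .g, .e, .d, .b, .c, .a, .b, .f, .g, .d, .c, .d, .e, .d, .c, .d, .b, .c, .d, .e]
  | .i10 => [.a, .b, .g, .e, .d, .c, .a, .b, .f, .g, .d, .c, .d, .e, .d, .c, .d, .b, .c, .d, .e]

/-- networks -/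
noncomputable def xN : Ix → Net
  | .i0 => x0N
  | .i1 => x1N
  | .i2 => x2N
  | .i3 => x3N
  | .i4 => x4N
  | .i5 => x5N
  | .i6 => x6N
  | .i7 => x7N
  | .i8 => x8N
  | .i9 => x9N
  | .i10 => x10N

theorem xN_ok (f : Ix) : (xN f).ok (2 ^ 11) = true := by
  cases f
  · decide +kernel
  · decide +kernel
  · decide +kernel
  · decide +kernel
  · decide +kernel
  · decide +kernel
  · decide +kernel
  · decide +kernel
  · decide +kernel
  · decide +kernel
  · decide +kernel

/-- the special elements -/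
noncomputable def x (f : Ix) : Suz := el (uw f ++ w0 ++ (uw f).reverse)

theorem xok (f : Ix) : WOk (2 ^ 11) [xN f] := WOk.cons (xN_ok f) (WOk.nil _)

/-- the check for one special element -/
noncomputable def xchk (f : Ix) : Bool := checkEq 11 (wd (uw f ++ w0 ++ (uw f).reverse)) [xN f]

theorem xchk_all (f : Ix) : xchk f = true := by
  cases f
  · decide +kernel
  · decide +kernel
  · decide +kernel
  · decide +kernel
  · decide +kernel
  · decide +kernel
  · decide +kernel
  · decide +kernel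
  · decide +kernel
  · decide +kernel
  · decide +kernel

theorem rep_x (f : Ix) : Rep (x f) [xN f] :=
  ⟨xok f, by rw [x, φ_el, wperm_eq_of_checkEq (wd_ok _) (xok f) (xchk_all f)]⟩

end Cfsg.Agent.SuzThree.Elts
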