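import Cfsg.Agent.SuzThree.NormElts

/-!
The six permutations of the eleven special subgroups generate a 4-transitive group.
-/

set_option autoImplicit false

namespace Cfsg.Agent.SuzThree.FourTrans

open Cfsg.Agent.SuzThree.Elts Cfsg.Agent.SuzThree.NormElts

/-- evaluate a word (the last letter acts first) -/
def ev : List Jx → Ix → Ix
  | [], f => f
  | j :: w, f => sg j (ev w f)

/-- words of level 0 -/
def tt0 : Ix → List Jx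
  | .i0 => []
  | .i1 => [.j5]
  | .i2 => [.j1, .j5]
  | .i3 => [.j0, .j5]
  | .i4 => [.j0, .j3, .j5]
  | .i5 => [.j1, .j0, .j5]
  | .i6 => [.j1, .j2, .j0, .j5]
  | .i7 => [.j2, .j0, .j5]
  | .i8 => [.j3, .j5]
  | .i9 => [.j3, .j4, .j5]
  | .i10 => [.j2, .j1, .j5]

/-- words of level 1 -/
def tt1 : Ix → List Jx
  | .i0 => []
  | .i1 => []
  | .i2 => [.j1]
  | .i3 => [.j0]
  | .i4 => [.j0, .j3]
  | .i5 => [.j1, .j0]
  | .i6 => [.j1, .j2, .j4]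
  | .i7 => [.j2, .j4]
  | .i8 => [.j3]
  | .i9 => [.j3, .j4]
  | .i10 => [.j2, .j1]

/-- words of level 2 -/
def tt2 : Ix → List Jx
  | .i0 => []
  | .i1 => []
  | .i2 => []
  | .i3 => [.j4, .j2, .j1]
  | .i4 => [.j3, .j1, .j4, .j3]
  | .i5 => [.j4, .j1, .j3, .j0]
  | .i6 => [.j3, .j1, .j3]
  | .i7 => [.j0, .j4]
  | .i8 => [.j5, .j4, .j2, .j1, .j5]
  | .i9 => [.j1, .j0, .j4, .j4]
  | .i10 => [.j2]

/-- words of level 3 -/
def tt3 : Ix → List Jx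
  | .i0 => []
  | .i1 => []
  | .i2 => []
  | .i3 => []
  | .i4 => [.j3, .j2, .j1, .j0]
  | .i5 => [.j2, .j3, .j1, .j3, .j2]
  | .i6 => [.j4, .j2, .j1, .j2]
  | .i7 => [.j3, .j1, .j4, .j1, .j3]
  | .i8 => [.j1, .j3, .j2, .j0]
  | .i9 => [.j2, .j1, .j3, .j4, .j1]
  | .i10 => [.j2, .j1, .j0, .j4, .j0]

theorem lev0 : ∀ a : Ix, ev (tt0 a) .i0 = a := by decide +kernel

theorem lev1 : ∀ b : Ix, b ≠ .i0 → ev (tt1 b) .i0 = .i0 ∧ ev (tt1 b) .i1 = b := by decide +kernel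

theorem lev2 : ∀ c : Ix, c ≠ .i0 → c ≠ .i1 →
    ev (tt2 c) .i0 = .i0 ∧ ev (tt2 c) .i1 = .i1 ∧ ev (tt2 c) .i2 = c := by decide +kernel

theorem lev3 : ∀ d : Ix, d ≠ .i0 → d ≠ .i1 → d ≠ .i2 →
    ev (tt3 d) .i0 = .i0 ∧ ev (tt3 d) .i1 = .i1 ∧ ev (tt3 d) .i2 = .i2 ∧ ev (tt3 d) .i3 = d := by
  decide +kernel

end Cfsg.Agent.SuzThree.FourTrans
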