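import Cfsg.Agent.SuzThree.ThreeWr

/-!
In the presented Suzuki group, a subgroup `X` of order 3 of the centraliser of the involution `a` with `|[Q, X]| ≤ 8` is
conjugate to the first special subgroup.
-/

set_option autoImplicit false
set_option maxRecDepth 100000
set_option exponentiation.threshold 4000

namespace Cfsg.Agent.SuzThree.GoodX

open Cfsg.Spor Cfsg.Agent.Lib.PermNet Cfsg.Agent.Lib.PermNetOrbit Cfsg.Agent.SporadicRecognition.SuzPhi
  Cfsg.Agent.SporadicRecognition.SuzBound Cfsg.Agent.SporadicRecognition.SuzOrder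
  Cfsg.Agent.SuzThree.Nets Cfsg.Agent.SuzThree.Basic Cfsg.Agent.SuzThree.Elts
  Cfsg.Agent.SuzThree.Elementary Cfsg.Agent.SuzThree.CentA Cfsg.Agent.SuzThree.CentB
  Cfsg.Agent.SuzThree.QZero Cfsg.Agent.SuzThree.ThreeWr

/-- A p-subgroup of `C` is conjugate in `C` into a p-subgroup of index prime to p. -/
theorem exists_conj_le {G : Type*} [Group G] [Finite G] {p : ℕ} [Fact p.Prime] {C S X : Subgroup G}
    (hX : X ≤ C) (hSp : IsPGroup p S) (hXp : IsPGroup p X)
    (hidx : ¬ p ∣ S.relIndex C) : ∃ c ∈ C, X.map (MulAut.conj c).toMonoidHom ≤ S := by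
  have hS' : IsPGroup p (S.subgroupOf C) := hSp.comap_of_injective C.subtype Subtype.val_injective
  have hX' : IsPGroup p (X.subgroupOf C) := hXp.comap_of_injective C.subtype Subtype.val_injective
  obtain ⟨Q, hQ⟩ := hX'.exists_le_sylow
  obtain ⟨c, hc⟩ := MulAction.exists_smul_eq C Q (hS'.toSylow hidx)
  refine ⟨c, c.2, ?_⟩
  rintro _ ⟨y, hy, rfl⟩
  have h1 : (⟨y, hX hy⟩ : C) ∈ (Q : Subgroup C) := hQ (Subgroup.mem_subgroupOf.2 hy)
  have h2 : c * ⟨y, hX hy⟩ * c⁻¹ ∈ ((c • Q : Sylow p C) : Subgroup C) := by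
    have : c * ⟨y, hX hy⟩ * c⁻¹ = (MulAut.conj c) • (⟨y, hX hy⟩ : C) := rfl
    rw [this]
    exact Subgroup.smul_mem_pointwise_smul _ _ _ h1
  rw [hc] at h2
  exact Subgroup.mem_subgroupOf.1 h2

/-- at most one of the first three exponents is nonzero and the last one is zero -/
def gd (i j k l : ℕ) : Bool :=
  and (Nat.beq l 0) (or (or (and (Nat.beq i 0) (Nat.beq j 0)) (and (Nat.beq i 0) (Nat.beq k 0)))
    (and (Nat.beq j 0) (Nat.beq k 0)))

/-- pairs of exponents -/
def ij : List (ℕ × ℕ) := [(0, 0), (0, 1), (0, 2), (1, 0), (1, 1), (1, 2), (2, 0), (2, 1), (2, 2)]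

/-- a row of the table -/
noncomputable def row (k l : ℕ) : Bool := allL (fun t => or (gd t.1 t.2 k l) (chk t.1 t.2 k l)) ij

theorem row00 : row 0 0 = true := by decide +kernel
theorem row10 : row 1 0 = true := by decide +kernel
theorem row20 : row 2 0 = true := by decide +kernel
theorem row01 : row 0 1 = true := by decide +kernel
theorem row11 : row 1 1 = true := by decide +kernel
theorem row21 : row 2 1 = true := by decide +kernel
theorem row02 : row 0 2 = true := by decide +kernel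
theorem row12 : row 1 2 = true := by decide +kernel
theorem row22 : row 2 2 = true := by decide +kernel

theorem row_all {k l : ℕ} (hk : k < 3) (hl : l < 3) : row k l = true := by
  interval_cases k <;> interval_cases l
  · exact row00
  · exact row01
  · exact row02
  · exact row10
  · exact row11
  · exact row12
  · exact row20
  · exact row21
  · exact row22

theorem gd_or_chk {i j k l : ℕ} (hi : i < 3) (hj : j < 3) (hk : k < 3) (hl : l < 3) :
    gd i j k l = true ∨ chk i j k l = true := by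
  have h1 : (i, j) ∈ ij := by
    interval_cases i <;> interval_cases j <;> simp [ij]
  have h := allL_spec (row_all hk hl) _ h1
  rwa [Bool.or_eq_true] at h

theorem of_gd {i j k l : ℕ} (h : gd i j k l = true) :
    Pr i j k l ∈ Subgroup.zpowers y0 ∨ Pr i j k l ∈ Subgroup.zpowers y1 ∨
      Pr i j k l ∈ Subgroup.zpowers y2 := by
  simp only [gd, Bool.and_eq_true, Bool.or_eq_true] at h
  obtain ⟨hl, h⟩ := h
  have hl := Nat.eq_of_beq_eq_true hl
  subst hl
  rcases h with (⟨hi, hj⟩ | ⟨hi, hk⟩) | ⟨hj, hk⟩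
  · have hi := Nat.eq_of_beq_eq_true hi
    have hj := Nat.eq_of_beq_eq_true hj
    subst hi hj
    right; right
    rw [Pr, pow_zero, pow_zero, pow_zero, one_mul, one_mul, mul_one]
    exact Subgroup.npow_mem_zpowers _ _
  · have hi := Nat.eq_of_beq_eq_true hi
    have hk := Nat.eq_of_beq_eq_true hk
    subst hi hk
    right; left
    rw [Pr, pow_zero, pow_zero, pow_zero, one_mul, mul_one, mul_one]
    exact Subgroup.npow_mem_zpowers _ _
  · have hj := Nat.eq_of_beq_eq_true hj
    have hk := Nat.eq_of_beq_eq_true hk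
    subst hj hk
    left
    rw [Pr, pow_zero, pow_zero, pow_zero, mul_one, mul_one, mul_one]
    exact Subgroup.npow_mem_zpowers _ _

theorem card_zpowers_le {y : Suz} (h : y ^ 3 = 1) : Nat.card (Subgroup.zpowers y) ≤ 3 := by
  rw [Nat.card_zpowers]
  exact orderOf_le_of_pow_eq_one (by norm_num) h

theorem conj_zpowers {a : Suz} (y : Suz) : (Subgroup.zpowers y).map (MulAut.conj a).toMonoidHom =
    Subgroup.zpowers (a * y * a⁻¹) := by
  rw [MonoidHom.map_zpowers]; rfl

theorem map_conj_mul (a b : Suz) (X : Subgroup Suz) :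
    (X.map (MulAut.conj b).toMonoidHom).map (MulAut.conj a).toMonoidHom =
      X.map (MulAut.conj (a * b)).toMonoidHom := by
  rw [Subgroup.map_map]
  congr 1
  ext y
  simp [MulAut.conj_apply, mul_assoc]

theorem conj_y1 : w⁻¹ * y1 * w⁻¹⁻¹ = y0 := by rw [y1]; group
theorem conj_y2 : (w * w)⁻¹ * y2 * (w * w)⁻¹⁻¹ = y0 := by rw [y2, y1]; group

theorem main {Q X : Subgroup Suz} (hQ : Q0 ≤ Q) (hX : X ≤ C1) (hX3 : Nat.card X = 3)
    (h8 : Nat.card ↥⁅Q, X⁆ ≤ 8) (hn : C1 ≤ Subgroup.normalizer (Q : Set Suz))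
    (hC : Nat.card C1 = 3317760) :
    ∃ g : Suz, X.map (MulAut.conj g).toMonoidHom = Subgroup.zpowers (x .i0) := by
  have hF : Fact (Nat.Prime 3) := ⟨Nat.prime_three⟩
  have hS : IsPGroup 3 S3 := by rw [IsPGroup.iff_card]; exact ⟨4, card_S3⟩
  have hXp : IsPGroup 3 X := by rw [IsPGroup.iff_card]; exact ⟨1, by rw [hX3]; norm_num⟩
  have hidx : ¬ 3 ∣ S3.relIndex C1 := by
    have h1 : Nat.card S3 * S3.relIndex C1 = Nat.card C1 := by
      rw [← Subgroup.relIndex_bot_left, ← Subgroup.relIndex_bot_left]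
      exact Subgroup.relIndex_mul_relIndex ⊥ S3 C1 bot_le S3_le
    rw [card_S3, hC] at h1
    omega
  obtain ⟨c, hc, hle⟩ := exists_conj_le hX hS hXp hidx
  set Y := X.map (MulAut.conj c).toMonoidHom with hY
  have hYc : Nat.card Y = 3 := by
    rw [hY, Nat.card_congr (X.equivMapOfInjective _ (MulAut.conj c).injective).symm.toEquiv, hX3]
  have hQc : Q.map (MulAut.conj c).toMonoidHom = Q := by
    apply Subgroup.eq_of_le_of_card_ge
    · rintro _ ⟨y, hy, rfl⟩
      exact ((hn hc) y).1 hy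
    · rw [Nat.card_congr (Q.equivMapOfInjective _ (MulAut.conj c).injective).symm.toEquiv]
  have hD : Nat.card ↥⁅Q, Y⁆ ≤ 8 := by
    have h1 : ⁅Q, Y⁆ = (⁅Q, X⁆).map (MulAut.conj c).toMonoidHom := by
      rw [Subgroup.map_commutator, hQc]
    rw [h1, Nat.card_congr ((⁅Q, X⁆).equivMapOfInjective _ (MulAut.conj c).injective).symm.toEquiv]
    exact h8
  -- a generator
  obtain ⟨s, hs, hs1⟩ : ∃ s ∈ Y, s ≠ 1 := by
    by_contra hcon
    push Not at hcon
    have : Y = ⊥ := by rw [eq_bot_iff]; intro s hs; exact hcon s hs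
    rw [this, Subgroup.card_bot] at hYc
    exact absurd hYc (by norm_num)
  have hs3 : s ^ 3 = 1 := by
    have := pow_card_eq_one' (x := (⟨s, hs⟩ : Y))
    rw [hYc] at this
    exact congrArg Subtype.val this
  have hgen : ∀ {y : Suz}, y ^ 3 = 1 → s ∈ Subgroup.zpowers y → Y = Subgroup.zpowers y := by
    intro y hy hsy
    have h1 : orderOf s = 3 := orderOf_eq_prime hs3 hs1
    have h2 : Subgroup.zpowers s = Y := by
      apply Subgroup.eq_of_le_of_card_ge (Subgroup.zpowers_le.2 hs)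
      rw [Nat.card_zpowers, h1, hYc]
    have h3 : Subgroup.zpowers s = Subgroup.zpowers y := by
      apply Subgroup.eq_of_le_of_card_ge (Subgroup.zpowers_le.2 hsy)
      rw [Nat.card_zpowers s, h1]
      exact card_zpowers_le hy
    rw [← h2, h3]
  obtain ⟨i, j, k, l, he⟩ := exists_Pr (hle hs)
  rw [Pr_mod] at he
  rcases gd_or_chk (Nat.mod_lt i (by norm_num : 0 < 3)) (Nat.mod_lt j (by norm_num : 0 < 3))
    (Nat.mod_lt k (by norm_num : 0 < 3)) (Nat.mod_lt l (by norm_num : 0 < 3)) with h | h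
  · have h1 := of_gd h
    rw [← he] at h1
    rcases h1 with h1 | h1 | h1
    · exact ⟨c, hgen y0_cube h1⟩
    · refine ⟨w⁻¹ * c, ?_⟩
      rw [← map_conj_mul, ← hY, hgen y1_cube h1, conj_zpowers, conj_y1]; rfl
    · refine ⟨(w * w)⁻¹ * c, ?_⟩
      rw [← map_conj_mul, ← hY, hgen y2_cube h1, conj_zpowers, conj_y2]; rfl
  · exfalso
    have h1 := of_chk h (by rw [← he]; exact hs3) ⁅Q, Y⁆ (fun m => by
      rw [← he]
      exact Subgroup.commutator_mem_commutator (hQ (q_mem m)) hs)
    omega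

end Cfsg.Agent.SuzThree.GoodX
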