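import Cfsg.Agent.SuzThree.Elementary

/-!
In the Suzuki group, an element acting as 1 on the elementary abelian subgroup of order 3^5 lies in that subgroup, and
no element inverts it.
-/

set_option autoImplicit false
set_option maxRecDepth 100000

namespace Cfsg.Agent.SuzThree.Kernel

open Cfsg.Spor Cfsg.Agent.Lib.PermNet Cfsg.Agent.Lib.PermNetOrbit Cfsg.Agent.SporadicRecognition.SuzPhi
  Cfsg.Agent.SporadicRecognition.SuzBound Cfsg.Agent.SporadicRecognition.SuzOrder
  Cfsg.Agent.SuzThree.Nets Cfsg.Agent.SuzThree.Basic Cfsg.Agent.SuzThree.Elts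
  Cfsg.Agent.SuzThree.Elementary

theorem card_stab4_le : Nat.card (stabL φ [98, 1, 1575, 0]) ≤ 3 := by
  have h7 := step7
  have h6 := step6
  have h5 := step5
  have h4 := step4
  have h0 : Nat.card (stabL φ []) ≤ Nat.card Suz :=
    Nat.card_le_card_of_injective _ (Subtype.val_injective)
  rw [card_Suz] at h0
  omega

theorem pt_of {v : V} {p q : ℕ} (h : mv (eW v) p q = true) : φ (E v) p = q := (rep_E v).pt h

theorem x0_fix : φ (x .i0) 0 = 0 := (rep_x .i0).pt (by decide +kernel)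
theorem x0_fix1 : φ (x .i0) 1575 = 1575 := (rep_x .i0).pt (by decide +kernel)
theorem x0_fix2 : φ (x .i0) 1 = 1 := (rep_x .i0).pt (by decide +kernel)
theorem x0_fix3 : φ (x .i0) 98 = 98 := (rep_x .i0).pt (by decide +kernel)

/-- The stabiliser of 0, 1575, 1, 98 is generated by the first special element. -/
theorem stab4 {g : Suz} (h0 : φ g 0 = 0) (h1 : φ g 1575 = 1575) (h2 : φ g 1 = 1) (h3 : φ g 98 = 98) :
    g ∈ Subgroup.zpowers (x .i0) := by
  have h6 : Subgroup.zpowers (x .i0) ≤ stabL φ [98, 1, 1575, 0] := by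
    rw [Subgroup.zpowers_le]
    intro q hq
    simp only [List.mem_cons, List.not_mem_nil, or_false] at hq
    rcases hq with rfl | rfl | rfl | rfl
    · exact x0_fix3
    · exact x0_fix2
    · exact x0_fix1
    · exact x0_fix
  have h7 : Nat.card (Subgroup.zpowers (x .i0)) = 3 := by
    rw [Nat.card_zpowers, orderOf_x]
  have h8 := Subgroup.eq_of_le_of_card_ge h6 (by rw [h7]; exact card_stab4_le)
  rw [h8]
  intro q hq
  simp only [List.mem_cons, List.not_mem_nil, or_false] at hq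
  rcases hq with rfl | rfl | rfl | rfl
  · exact h3
  · exact h2
  · exact h1
  · exact h0

theorem zpow_fix {p : ℕ} (h : φ (x .i0) p = p) {g : Suz} (hg : g ∈ Subgroup.zpowers (x .i0)) :
    φ g p = p := by
  have h1 : Subgroup.zpowers (x .i0) ≤ stabL φ [p] := by
    rw [Subgroup.zpowers_le]
    intro q hq
    simp only [List.mem_cons, List.not_mem_nil, or_false] at hq
    subst hq
    exact h
  exact h1 hg p (by simp)

/-- exponents moving 0 to the other base points -/
def u1 : V := (0, 0, 1, 2, 1)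
/-- exponents moving 0 to the other base points -/
def u2 : V := (0, 1, 0, 1, 0)
/-- exponents moving 0 to the other base points -/
def u3 : V := (0, 2, 1, 0, 1)

theorem hu1 : φ (E u1) 0 = 1575 := pt_of (by decide +kernel)
theorem hu2 : φ (E u2) 0 = 1 := pt_of (by decide +kernel)
theorem hu3 : φ (E u3) 0 = 98 := pt_of (by decide +kernel)

theorem img_of {s : V → V} {n : Suz} (hn : ∀ v, n * E v = E (s v) * n) {v : V} {p q r : ℕ}
    (h0 : φ n 0 = q) (hp : φ (E v) 0 = p) (hr : φ (E (s v)) q = r) : φ n p = r := by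
  rw [← hp, ← Equiv.Perm.mul_apply, ← map_mul, hn, map_mul, Equiv.Perm.mul_apply, h0, hr]

theorem mode_false {s : V → V} {n : Suz} (hn : ∀ v, n * E v = E (s v) * n) {w : List Suz.Gen}
    {q0 q1 q2 q3 t0 nt ex : ℕ} {ut : V} (h0 : φ n 0 = q0)
    (a1 : φ (E (s u1)) q0 = q1) (a2 : φ (E (s u2)) q0 = q2) (a3 : φ (E (s u3)) q0 = q3)
    (b0 : φ (el w) 0 = q0) (b1 : φ (el w) 1575 = q1) (b2 : φ (el w) 1 = q2) (b3 : φ (el w) 98 = q3)
    (ht : φ (E ut) 0 = t0) (hw : φ (el w) t0 = nt) (he : φ (E (s ut)) q0 = ex) (hne : nt ≠ ex) :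
    False := by
  have c1 := img_of hn h0 hu1 a1
  have c2 := img_of hn h0 hu2 a2
  have c3 := img_of hn h0 hu3 a3
  have ct := img_of hn h0 ht he
  have key : ∀ {p q : ℕ}, φ n p = q → φ (el w) p = q → φ ((el w)⁻¹ * n) p = p := by
    intro p q h1 h2
    rw [map_mul, map_inv, Equiv.Perm.mul_apply, Equiv.Perm.inv_eq_iff_eq, h1, h2]
  have hm := stab4 (key h0 b0) (key c1 b1) (key c2 b2) (key c3 b3)
  have hx : φ (x .i0) t0 = t0 := by
    rw [← ht, ← Equiv.Perm.mul_apply, ← map_mul, comm_A0 (x_mem _) (E_mem _), map_mul,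
      Equiv.Perm.mul_apply, x0_fix]
  have h4 := zpow_fix hx hm
  rw [map_mul, map_inv, Equiv.Perm.mul_apply, Equiv.Perm.inv_eq_iff_eq, ct] at h4
  rw [h4] at hne
  exact hne hw.symm

theorem mode0 {n : Suz} (hn : ∀ v, n * E v = E (-v) * n) (h0 : φ n 0 = 0) : False :=
  mode_false (s := (fun v => -v)) hn (w := [.b, .f, .c, .d, .b, .c, .d, .c, .b, .f, .c, .d, .b, .a])
    (q0 := 0) (q1 := 1367) (q2 := 80) (q3 := 222) (t0 := 1416) (nt := 1422) (ex := 1496) (ut := (0, 1, 0, 0, 0)) h0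
    (pt_of (by decide +kernel)) (pt_of (by decide +kernel)) (pt_of (by decide +kernel))
    ((Rep.el _).pt (by decide +kernel)) ((Rep.el _).pt (by decide +kernel))
    ((Rep.el _).pt (by decide +kernel)) ((Rep.el _).pt (by decide +kernel))
    (pt_of (by decide +kernel)) ((Rep.el _).pt (by decide +kernel)) (pt_of (by decide +kernel))
    (by decide)

theorem mode1 {n : Suz} (hn : ∀ v, n * E v = E (v) * n) (h0 : φ n 0 = 6) : False :=
  mode_false (s := (fun v => v)) hn (w := [.g, .b, .f, .b, .g, .b, .f, .c, .d, .c, .b, .a])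
    (q0 := 6) (q1 := 1567) (q2 := 200) (q3 := 1399) (t0 := 1401) (nt := 194) (ex := 215) (ut := (0, 0, 1, 0, 0)) h0
    (pt_of (by decide +kernel)) (pt_of (by decide +kernel)) (pt_of (by decide +kernel))
    ((Rep.el _).pt (by decide +kernel)) ((Rep.el _).pt (by decide +kernel))
    ((Rep.el _).pt (by decide +kernel)) ((Rep.el _).pt (by decide +kernel))
    (pt_of (by decide +kernel)) ((Rep.el _).pt (by decide +kernel)) (pt_of (by decide +kernel))
    (by decide)

theorem mode2 {n : Suz} (hn : ∀ v, n * E v = E (-v) * n) (h0 : φ n 0 = 6) : False :=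
  mode_false (s := (fun v => -v)) hn (w := [.a, .b, .f, .b, .g, .c, .d, .c, .b, .a, .b, .f, .c, .d, .a, .b, .c])
    (q0 := 6) (q1 := 1372) (q2 := 180) (q3 := 1435) (t0 := 1416) (nt := 1401) (ex := 1454) (ut := (0, 1, 0, 0, 0)) h0
    (pt_of (by decide +kernel)) (pt_of (by decide +kernel)) (pt_of (by decide +kernel))
    ((Rep.el _).pt (by decide +kernel)) ((Rep.el _).pt (by decide +kernel))
    ((Rep.el _).pt (by decide +kernel)) ((Rep.el _).pt (by decide +kernel))
    (pt_of (by decide +kernel)) ((Rep.el _).pt (by decide +kernel)) (pt_of (by decide +kernel))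
    (by decide)


theorem vec_inj : ∀ f g : Ix, vec f = vec g → f = g := by decide +kernel

theorem vec_neg : ∀ f g : Ix, vec f = -vec g → f = g := by decide +kernel

theorem x_inj_zpowers {f g : Ix} (h : x f ∈ Subgroup.zpowers (x g)) : f = g := by
  rcases mem_zpowers_x h with h | h | h
  · have h1 := orderOf_x f
    rw [h, orderOf_one] at h1
    exact absurd h1 (by decide)
  · rw [x_eq, x_eq] at h
    exact vec_inj _ _ (E_injective h)
  · rw [x_eq, x_eq, ← E_neg] at h
    exact vec_neg _ _ (E_injective h)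

theorem rep_i0 : ∀ a ∈ reps, a.2 = .i0 → a.1 = 0 ∨ a.1 = 6 := by
  decide +kernel

/-- Normalise so that 0 goes to 0 or to the other representative. -/
theorem normalise {s : V → V} {n : Suz} (hn : ∀ v, n * E v = E (s v) * n)
    (hs : E (s (vec .i0)) = x .i0 ∨ E (s (vec .i0)) = (x .i0)⁻¹) :
    ∃ b ∈ A0, (∀ v, (b⁻¹ * n) * E v = E (s v) * (b⁻¹ * n)) ∧
      (φ (b⁻¹ * n) 0 = 0 ∨ φ (b⁻¹ * n) 0 = 6) := by
  obtain ⟨a, ha, b, hb, hab⟩ := exists_rep (p := φ n 0) (φ_lt 0 (by norm_num))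
  refine ⟨b, hb, ?_, ?_⟩
  · intro v
    rw [mul_assoc, hn, ← mul_assoc, ← mul_assoc, comm_A0 (A0.inv_mem hb) (E_mem _)]
  · have h1 : φ (b⁻¹ * n) 0 = a.1 := by
      rw [map_mul, map_inv, Equiv.Perm.mul_apply, Equiv.Perm.inv_eq_iff_eq, hab]
    rw [h1]
    apply rep_i0 a ha
    -- `x i0` fixes `a.1`
    have h2 : φ (E (s (vec .i0))) (φ n 0) = φ n 0 := by
      rw [← Equiv.Perm.mul_apply, ← map_mul, ← hn, ← x_eq, map_mul, Equiv.Perm.mul_apply, x0_fix]
    have h3 : φ (x .i0) (φ n 0) = φ n 0 := by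
      rcases hs with hs | hs
      · rw [hs] at h2; exact h2
      · rw [hs, map_inv, Equiv.Perm.inv_eq_iff_eq] at h2; exact h2.symm
    rw [← hab, ← Equiv.Perm.mul_apply, ← map_mul, comm_A0 (x_mem _) hb, map_mul,
      Equiv.Perm.mul_apply] at h3
    have h4 := stab_rep ha (x_mem .i0) ((φ b).injective h3)
    exact (x_inj_zpowers h4).symm

/-- `A0` contains its centraliser. -/
theorem mem_of_centralizes {n : Suz} (hn : ∀ v, n * E v = E v * n) : n ∈ A0 := by
  obtain ⟨b, hb, h1, h2⟩ := normalise (s := fun v => v) hn (Or.inl (x_eq _).symm)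
  rcases h2 with h2 | h2
  · have c1 := img_of (s := fun v => v) h1 h2 hu1 hu1
    have c2 := img_of (s := fun v => v) h1 h2 hu2 hu2
    have c3 := img_of (s := fun v => v) h1 h2 hu3 hu3
    have h3 := stab4 h2 c1 c2 c3
    have h4 : b⁻¹ * n ∈ A0 := (Subgroup.zpowers_le.2 (x_mem .i0)) h3
    exact (Subgroup.mul_mem_cancel_left _ (A0.inv_mem hb)).1 h4
  · exact (mode1 h1 h2).elim

/-- No element inverts `A0`. -/
theorem not_inverts {n : Suz} (hn : ∀ v, n * E v = E (-v) * n) : False := by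
  obtain ⟨b, hb, h1, h2⟩ := normalise (s := fun v => -v) hn (Or.inr (by rw [E_neg, ← x_eq]))
  rcases h2 with h2 | h2
  · exact mode0 h1 h2
  · exact mode2 h1 h2

end Cfsg.Agent.SuzThree.Kernel
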