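import Cfsg.Agent.SuzThree.FourTrans
import Cfsg.Agent.SuzThree.Comb
import Cfsg.Agent.SporadicA.M11Iso
import Cfsg.Prelude.Def_Spor_Mathieu

/-!
The normaliser of the elementary abelian subgroup of order 3^5 of the Suzuki group acts on the eleven special subgroups
as `M₁₁`, with kernel that subgroup.
-/

set_option autoImplicit false
set_option maxRecDepth 100000

open scoped Pointwise

namespace Cfsg.Agent.SuzThree.NormAct

open Cfsg.Spor Cfsg.Agent.SporadicRecognition.SuzPhi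
  Cfsg.Agent.SporadicRecognition.SuzOrder
  Cfsg.Agent.SuzThree.Basic Cfsg.Agent.SuzThree.Elts
  Cfsg.Agent.SuzThree.Elementary Cfsg.Agent.SuzThree.NormElts Cfsg.Agent.SuzThree.FourTrans

/-- the action on the special subgroups -/
noncomputable instance action : MulAction NA Ix where
  smul n f := Classical.choose (exists_sp n.2 f)
  one_smul f := sp_unique (Classical.choose_spec (exists_sp (1 : NA).2 f)) (sp_one f)
  mul_smul m n f := sp_unique (Classical.choose_spec (exists_sp (m * n).2 f))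
    (sp_mul (Classical.choose_spec (exists_sp n.2 f))
      (Classical.choose_spec (exists_sp m.2 (Classical.choose (exists_sp n.2 f)))))

theorem smul_spec (n : NA) (f : Ix) : Sp n f (n • f) := Classical.choose_spec (exists_sp n.2 f)

theorem smul_eq {n : NA} {f g : Ix} (h : Sp n f g) : n • f = g := sp_unique (smul_spec n f) h

/-- the linear map of an element of the normaliser -/
theorem exists_L (n : NA) : ∃ L : V →+ V, ∀ v, E (L v) = n * E v * (n : Suz)⁻¹ := by
  have h : ∀ v, ∃ w, E w = n * E v * (n : Suz)⁻¹ := fun v => mem_A0.1 ((n.2 _).1 (E_mem v))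
  choose L hL using h
  refine ⟨AddMonoidHom.mk' L ?_, fun v => hL v⟩
  intro v w
  apply E_injective
  rw [E_add, hL, hL, hL, E_add]
  group

theorem isSp_of {n : NA} {L : V →+ V} (hL : ∀ v, E (L v) = n * E v * (n : Suz)⁻¹) (f : Ix) :
    L (vec f) = vec (n • f) ∨ L (vec f) = -vec (n • f) := by
  rcases smul_spec n f with h | h
  · left
    apply E_injective
    rw [hL, ← x_eq, h, x_eq]
  · right
    apply E_injective
    rw [hL, ← x_eq, h, E_neg, ← x_eq]

/-- An element fixing the first four special subgroups lies in `A0`. -/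
theorem mem_of_fix {n : NA} (h0 : n • Ix.i0 = Ix.i0) (h1 : n • Ix.i1 = Ix.i1)
    (h2 : n • Ix.i2 = Ix.i2) (h3 : n • Ix.i3 = Ix.i3) : (n : Suz) ∈ A0 := by
  obtain ⟨L, hL⟩ := exists_L n
  have k0 := isSp_of hL .i0
  have k1 := isSp_of hL .i1
  have k2 := isSp_of hL .i2
  have k3 := isSp_of hL .i3
  rw [h0] at k0
  rw [h1] at k1
  rw [h2] at k2
  rw [h3] at k3
  rcases Comb.main L (fun f => ⟨_, isSp_of hL f⟩) k0 k1 k2 k3 with h | h
  · apply Kernel.mem_of_centralizes
    intro v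
    have h4 := hL v
    rw [h] at h4
    exact mul_inv_eq_iff_eq_mul.1 h4.symm
  · exfalso
    apply Kernel.not_inverts (n := n)
    intro v
    have h4 := hL v
    rw [h] at h4
    exact mul_inv_eq_iff_eq_mul.1 h4.symm

theorem A0_smul {n : NA} (hn : (n : Suz) ∈ A0) (f : Ix) : n • f = f := by
  apply smul_eq
  left
  rw [comm_A0 hn (x_mem f)]; group

/-- the product of a word -/
noncomputable def npr : List Jx → NA
  | [] => 1
  | j :: w => ⟨el (nw j), nw_mem j⟩ * npr w

theorem npr_smul (w : List Jx) (f : Ix) : npr w • f = ev w f := by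
  induction w with
  | nil => exact one_smul _ _
  | cons j w ih =>
    rw [npr, mul_smul, ih]
    exact smul_eq (act j _)

/-- the permutation group on the special subgroups -/
noncomputable abbrev R : Subgroup (Equiv.Perm Ix) := (MulAction.toPermHom NA Ix).range

theorem exists_npr (a b c d : Ix) (h : [a, b, c, d].Nodup) :
    ∃ n : NA, n • Ix.i0 = a ∧ n • Ix.i1 = b ∧ n • Ix.i2 = c ∧ n • Ix.i3 = d := by
  obtain ⟨hab, hac, had, hbc, hbd, hcd⟩ := SporadicA.SharpFour.nodup4_iff.1 h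
  let g0 := npr (tt0 a)
  have e0 : g0 • Ix.i0 = a := (npr_smul _ _).trans (lev0 a)
  have nb : g0⁻¹ • b ≠ .i0 := by
    intro hh; rw [inv_smul_eq_iff, e0] at hh; exact hab hh.symm
  let g1 := npr (tt1 (g0⁻¹ • b))
  have e1 : g1 • Ix.i0 = .i0 := (npr_smul _ _).trans (lev1 _ nb).1
  have e1' : g1 • Ix.i1 = g0⁻¹ • b := (npr_smul _ _).trans (lev1 _ nb).2
  have nc0 : (g0 * g1)⁻¹ • c ≠ .i0 := by
    intro hh; rw [inv_smul_eq_iff, mul_smul, e1, e0] at hh; exact hac hh.symm
  have nc1 : (g0 * g1)⁻¹ • c ≠ .i1 := by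
    intro hh; rw [inv_smul_eq_iff, mul_smul, e1', smul_inv_smul] at hh; exact hbc hh.symm
  let g2 := npr (tt2 ((g0 * g1)⁻¹ • c))
  have e2 : g2 • Ix.i0 = .i0 := (npr_smul _ _).trans (lev2 _ nc0 nc1).1
  have e2' : g2 • Ix.i1 = .i1 := (npr_smul _ _).trans (lev2 _ nc0 nc1).2.1
  have e2'' : g2 • Ix.i2 = (g0 * g1)⁻¹ • c := (npr_smul _ _).trans (lev2 _ nc0 nc1).2.2
  have nd0 : (g0 * g1 * g2)⁻¹ • d ≠ .i0 := by
    intro hh; rw [inv_smul_eq_iff, mul_smul, e2, mul_smul, e1, e0] at hh; exact had hh.symm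
  have nd1 : (g0 * g1 * g2)⁻¹ • d ≠ .i1 := by
    intro hh; rw [inv_smul_eq_iff, mul_smul, e2', mul_smul, e1', smul_inv_smul] at hh
    exact hbd hh.symm
  have nd2 : (g0 * g1 * g2)⁻¹ • d ≠ .i2 := by
    intro hh; rw [inv_smul_eq_iff, mul_smul, e2'', smul_inv_smul] at hh
    exact hcd hh.symm
  let g3 := npr (tt3 ((g0 * g1 * g2)⁻¹ • d))
  have e3 := lev3 _ nd0 nd1 nd2
  have f0 : g3 • Ix.i0 = .i0 := (npr_smul _ _).trans e3.1
  have f1 : g3 • Ix.i1 = .i1 := (npr_smul _ _).trans e3.2.1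
  have f2 : g3 • Ix.i2 = .i2 := (npr_smul _ _).trans e3.2.2.1
  have f3 : g3 • Ix.i3 = (g0 * g1 * g2)⁻¹ • d := (npr_smul _ _).trans e3.2.2.2
  refine ⟨g0 * g1 * g2 * g3, ?_, ?_, ?_, ?_⟩
  · rw [mul_smul, f0, mul_smul, e2, mul_smul, e1, e0]
  · rw [mul_smul, f1, mul_smul, e2', mul_smul, e1', smul_inv_smul]
  · rw [mul_smul, f2, mul_smul, e2'', smul_inv_smul]
  · rw [mul_smul, f3, smul_inv_smul]

theorem R_smul {σ : R} (f : Ix) : σ • f = (σ : Equiv.Perm Ix) f := rfl

theorem sharp : SporadicA.SharpFour.Sharp4 R Ix := by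
  constructor
  · intro a b c d a' b' c' d' h h'
    obtain ⟨n, h0, h1, h2, h3⟩ := exists_npr a b c d h
    obtain ⟨n', h0', h1', h2', h3'⟩ := exists_npr a' b' c' d' h'
    refine ⟨⟨MulAction.toPermHom NA Ix (n' * n⁻¹), ⟨_, rfl⟩⟩, ?_, ?_, ?_, ?_⟩
    · show (n' * n⁻¹) • a = a'
      rw [mul_smul, ← h0, inv_smul_smul, h0']
    · show (n' * n⁻¹) • b = b'
      rw [mul_smul, ← h1, inv_smul_smul, h1']
    · show (n' * n⁻¹) • c = c'
      rw [mul_smul, ← h2, inv_smul_smul, h2']
    · show (n' * n⁻¹) • d = d'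
      rw [mul_smul, ← h3, inv_smul_smul, h3']
  · rintro ⟨_, ⟨m, rfl⟩⟩ a b c d h ha hb hc hd
    obtain ⟨n, h0, h1, h2, h3⟩ := exists_npr a b c d h
    have ha : m • a = a := ha
    have hb : m • b = b := hb
    have hc : m • c = c := hc
    have hd : m • d = d := hd
    have key : ∀ {i a : Ix}, n • i = a → m • a = a → (n⁻¹ * m * n) • i = i := by
      intro i a h1 h2
      rw [mul_smul, h1, mul_smul, h2, ← h1, inv_smul_smul]
    have hm := mem_of_fix (key h0 ha) (key h1 hb) (key h2 hc) (key h3 hd)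
    apply Subtype.ext
    ext f
    show m • f = f
    have e : m = n * (n⁻¹ * m * n) * n⁻¹ := by group
    rw [e, mul_smul, mul_smul, A0_smul hm, smul_inv_smul]

theorem ker_eq : (MulAction.toPermHom NA Ix).ker = A0.subgroupOf NA := by
  ext n
  rw [MonoidHom.mem_ker, Subgroup.mem_subgroupOf]
  constructor
  · intro h
    have hf : ∀ f : Ix, n • f = f := fun f => congrArg (fun σ : Equiv.Perm Ix => σ f) h
    exact mem_of_fix (hf _) (hf _) (hf _) (hf _)
  · intro h
    ext f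
    exact A0_smul h f

theorem squareDodecad_mem : squareDodecad ∈ dodecads := by
  refine ⟨⟨qrWord 0, Submodule.subset_span (Or.inl ⟨0, rfl⟩), rfl⟩, ?_⟩
  decide +kernel

theorem isoM11_R : IsoM11 R := by
  obtain ⟨e⟩ := SporadicA.M11Iso.nonempty_mulEquiv_dodecad_point (G := R) (α := Ix) card_Ix sharp
    squareDodecad squareDodecad_mem (some 0) (by decide +kernel)
  have h : (MulAction.stabilizer M24 squareDodecad ⊓ MulAction.stabilizer M24 (some 0 : GolayPt)).map
      M24.subtype = M11 := by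
    ext σ
    constructor
    · rintro ⟨τ, hτ, rfl⟩
      exact ⟨⟨τ.2, hτ.1⟩, hτ.2⟩
    · rintro ⟨⟨h1, h2⟩, h3⟩
      exact ⟨⟨σ, h1⟩, ⟨h2, h3⟩, rfl⟩
  exact ⟨e.trans ((Subgroup.equivMapOfInjective _ _ (Subtype.val_injective)).trans
    (MulEquiv.subgroupCongr h))⟩

instance normal_sub : (A0.subgroupOf NA).Normal := Subgroup.normal_in_normalizer

theorem isoM11 : IsoM11 (NA ⧸ A0.subgroupOf NA) := by
  obtain ⟨e⟩ := isoM11_R
  exact ⟨((QuotientGroup.quotientMulEquivOfEq ker_eq.symm).trans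
    (QuotientGroup.quotientKerEquivRange (MulAction.toPermHom NA Ix))).trans e⟩

end Cfsg.Agent.SuzThree.NormAct
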