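import Cfsg.Agent.SuzThree.Kernel

/-!
Elements of the Suzuki group normalising the elementary abelian subgroup of order 3^5, and their action on the eleven
special subgroups.
-/

set_option autoImplicit false
set_option maxRecDepth 100000

namespace Cfsg.Agent.SuzThree.NormElts

open Cfsg.Spor Cfsg.Agent.Lib.PermNet Cfsg.Agent.Lib.PermNetOrbit Cfsg.Agent.SporadicRecognition.SuzPhi
  Cfsg.Agent.SporadicRecognition.SuzBound Cfsg.Agent.SporadicRecognition.SuzOrder
  Cfsg.Agent.SuzThree.Nets Cfsg.Agent.SuzThree.Basic Cfsg.Agent.SuzThree.Elts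
  Cfsg.Agent.SuzThree.Elementary

/-- `n` maps the special subgroup `f` to the special subgroup `g` -/
def Sp (n : Suz) (f g : Ix) : Prop := n * x f * n⁻¹ = x g ∨ n * x f * n⁻¹ = (x g)⁻¹

theorem sp_pos {w : List Suz.Gen} {f g : Ix}
    (h : checkEq 11 (wd w ++ [xN f] ++ wd w.reverse) [xN g] = true) : Sp (el w) f g := by
  left
  have h1 : Rep (el w * x f * el w.reverse) (wd w ++ [xN f] ++ wd w.reverse) :=
    ((Rep.el w).mul (rep_x f)).mul (Rep.el _)
  rw [← el_reverse]
  exact eq_of_reps h1 (rep_x g) h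

theorem sp_neg {w : List Suz.Gen} {f g : Ix}
    (h : checkEq 11 (wd w ++ [xN f] ++ wd w.reverse ++ [xN g]) [] = true) : Sp (el w) f g := by
  right
  have h1 : Rep (el w * x f * el w.reverse * x g) (wd w ++ [xN f] ++ wd w.reverse ++ [xN g]) :=
    (((Rep.el w).mul (rep_x f)).mul (Rep.el _)).mul (rep_x g)
  rw [← el_reverse]
  exact eq_inv_of_mul_eq_one_left (eq_of_reps h1 Rep.one h)

/-- indices of the generators -/
inductive Jx : Type
  | j0 | j1 | j2 | j3 | j4 | j5
  deriving DecidableEq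

/-- generators of the normaliser modulo `A0` -/
def nw : Jx → List Suz.Gen
  | .j0 => [.c]
  | .j1 => [.g, .a]
  | .j2 => [.a, .b, .a]
  | .j3 => [.b, .d, .c, .d, .a, .b]
  | .j4 => [.d, .c, .b, .g, .f, .d, .b, .c, .d]
  | .j5 => [.a, .e, .d, .c, .b, .d, .c, .f, .g, .d, .e, .d, .c, .d, .b, .c, .d, .e, .d, .a]

/-- their action on the special subgroups -/
def sg : Jx → Ix → Ix
  | .j0, .i0 => .i0
  | .j0, .i1 => .i3
  | .j0, .i2 => .i5
  | .j0, .i3 => .i1
  | .j0, .i4 => .i8
  | .j0, .i5 => .i2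
  | .j0, .i6 => .i6
  | .j0, .i7 => .i7
  | .j0, .i8 => .i4
  | .j0, .i9 => .i10
  | .j0, .i10 => .i9
  | .j1, .i0 => .i0
  | .j1, .i1 => .i2
  | .j1, .i2 => .i1
  | .j1, .i3 => .i5
  | .j1, .i4 => .i4
  | .j1, .i5 => .i3
  | .j1, .i6 => .i7
  | .j1, .i7 => .i6
  | .j1, .i8 => .i8
  | .j1, .i9 => .i10
  | .j1, .i10 => .i9
  | .j2, .i0 => .i0
  | .j2, .i1 => .i1
  | .j2, .i2 => .i10
  | .j2, .i3 => .i7
  | .j2, .i4 => .i9
  | .j2, .i5 => .i8
  | .j2, .i6 => .i6
  | .j2, .i7 => .i3
  | .j2, .i8 => .i5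
  | .j2, .i9 => .i4
  | .j2, .i10 => .i2
  | .j3, .i0 => .i0
  | .j3, .i1 => .i8
  | .j3, .i2 => .i7
  | .j3, .i3 => .i9
  | .j3, .i4 => .i10
  | .j3, .i5 => .i5
  | .j3, .i6 => .i6
  | .j3, .i7 => .i2
  | .j3, .i8 => .i1
  | .j3, .i9 => .i3
  | .j3, .i10 => .i4
  | .j4, .i0 => .i0
  | .j4, .i1 => .i3
  | .j4, .i2 => .i7
  | .j4, .i3 => .i5
  | .j4, .i4 => .i2
  | .j4, .i5 => .i10
  | .j4, .i6 => .i6
  | .j4, .i7 => .i9
  | .j4, .i8 => .i8
  | .j4, .i9 => .i4
  | .j4, .i10 => .i1
  | .j5, .i0 => .i1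
  | .j5, .i1 => .i0
  | .j5, .i2 => .i3
  | .j5, .i3 => .i2
  | .j5, .i4 => .i9
  | .j5, .i5 => .i5
  | .j5, .i6 => .i6
  | .j5, .i7 => .i10
  | .j5, .i8 => .i8
  | .j5, .i9 => .i4
  | .j5, .i10 => .i7

theorem act0 (f : Ix) : Sp (el (nw .j0)) f (sg .j0 f) := by
  cases f
  · exact sp_pos (by decide +kernel)
  · exact sp_pos (by decide +kernel)
  · exact sp_pos (by decide +kernel)
  · exact sp_pos (by decide +kernel)
  · exact sp_pos (by decide +kernel)
  · exact sp_pos (by decide +kernel)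
  · exact sp_pos (by decide +kernel)
  · exact sp_pos (by decide +kernel)
  · exact sp_pos (by decide +kernel)
  · exact sp_pos (by decide +kernel)
  · exact sp_pos (by decide +kernel)

theorem act1 (f : Ix) : Sp (el (nw .j1)) f (sg .j1 f) := by
  cases f
  · exact sp_pos (by decide +kernel)
  · exact sp_pos (by decide +kernel)
  · exact sp_pos (by decide +kernel)
  · exact sp_pos (by decide +kernel)
  · exact sp_pos (by decide +kernel)
  · exact sp_pos (by decide +kernel)
  · exact sp_neg (by decide +kernel)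
  · exact sp_neg (by decide +kernel)
  · exact sp_pos (by decide +kernel)
  · exact sp_pos (by decide +kernel)
  · exact sp_pos (by decide +kernel)

theorem act2 (f : Ix) : Sp (el (nw .j2)) f (sg .j2 f) := by
  cases f
  · exact sp_pos (by decide +kernel)
  · exact sp_pos (by decide +kernel)
  · exact sp_pos (by decide +kernel)
  · exact sp_pos (by decide +kernel)
  · exact sp_pos (by decide +kernel)
  · exact sp_pos (by decide +kernel)
  · exact sp_pos (by decide +kernel)
  · exact sp_pos (by decide +kernel)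
  · exact sp_pos (by decide +kernel)
  · exact sp_pos (by decide +kernel)
  · exact sp_pos (by decide +kernel)

theorem act3 (f : Ix) : Sp (el (nw .j3)) f (sg .j3 f) := by
  cases f
  · exact sp_pos (by decide +kernel)
  · exact sp_neg (by decide +kernel)
  · exact sp_neg (by decide +kernel)
  · exact sp_neg (by decide +kernel)
  · exact sp_pos (by decide +kernel)
  · exact sp_pos (by decide +kernel)
  · exact sp_pos (by decide +kernel)
  · exact sp_neg (by decide +kernel)
  · exact sp_neg (by decide +kernel)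
  · exact sp_neg (by decide +kernel)
  · exact sp_pos (by decide +kernel)

theorem act4 (f : Ix) : Sp (el (nw .j4)) f (sg .j4 f) := by
  cases f
  · exact sp_neg (by decide +kernel)
  · exact sp_neg (by decide +kernel)
  · exact sp_pos (by decide +kernel)
  · exact sp_pos (by decide +kernel)
  · exact sp_neg (by decide +kernel)
  · exact sp_neg (by decide +kernel)
  · exact sp_pos (by decide +kernel)
  · exact sp_pos (by decide +kernel)
  · exact sp_neg (by decide +kernel)
  · exact sp_neg (by decide +kernel)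
  · exact sp_pos (by decide +kernel)

theorem act5 (f : Ix) : Sp (el (nw .j5)) f (sg .j5 f) := by
  cases f
  · exact sp_neg (by decide +kernel)
  · exact sp_neg (by decide +kernel)
  · exact sp_pos (by decide +kernel)
  · exact sp_pos (by decide +kernel)
  · exact sp_pos (by decide +kernel)
  · exact sp_pos (by decide +kernel)
  · exact sp_pos (by decide +kernel)
  · exact sp_pos (by decide +kernel)
  · exact sp_pos (by decide +kernel)
  · exact sp_pos (by decide +kernel)
  · exact sp_pos (by decide +kernel)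

theorem act (j : Jx) (f : Ix) : Sp (el (nw j)) f (sg j f) := by
  cases j
  · exact act0 f
  · exact act1 f
  · exact act2 f
  · exact act3 f
  · exact act4 f
  · exact act5 f

theorem A0_le {H : Subgroup Suz} (h : ∀ f, x f ∈ H) : A0 ≤ H := by
  intro a ha
  obtain ⟨v, rfl⟩ := mem_A0.1 ha
  exact H.mul_mem (H.pow_mem (h _) _) (H.mul_mem (H.pow_mem (h _) _) (H.mul_mem (H.pow_mem (h _) _)
    (H.mul_mem (H.pow_mem (h _) _) (H.pow_mem (h _) _))))

/-- the normaliser -/
abbrev NA : Subgroup Suz := Subgroup.normalizer (A0 : Set Suz)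

theorem mem_NA_of_sp {n : Suz} (h : ∀ f, ∃ g, Sp n f g) : n ∈ NA := by
  have h1 : A0 ≤ A0.comap (MulAut.conj n).toMonoidHom := by
    apply A0_le
    intro f
    obtain ⟨g, hg | hg⟩ := h f
    · show n * x f * n⁻¹ ∈ A0
      rw [hg]; exact x_mem g
    · show n * x f * n⁻¹ ∈ A0
      rw [hg]; exact A0.inv_mem (x_mem g)
  exact Subgroup.mem_normalizer_fintype (S := (A0 : Set Suz)) (fun a ha => h1 ha)

theorem nw_mem (j : Jx) : el (nw j) ∈ NA := mem_NA_of_sp fun f => ⟨_, act j f⟩

/-! ### Special elements are those with fixed points -/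

theorem fix_of_mem_A0 {a : Suz} (ha : a ∈ A0) (h1 : a ≠ 1) {p : ℕ} (hp : p < 1782)
    (h : φ a p = p) : ∃ f, a = x f ∨ a = (x f)⁻¹ := by
  obtain ⟨r, hr, b, hb, hb2⟩ := exists_rep hp
  have h2 : φ a r.1 = r.1 := by
    rw [← hb2, ← Equiv.Perm.mul_apply, ← map_mul, comm_A0 ha hb, map_mul, Equiv.Perm.mul_apply] at h
    exact (φ b).injective h
  rcases mem_zpowers_x (stab_rep hr ha h2) with h3 | h3 | h3
  · exact absurd h3 h1
  · exact ⟨_, Or.inl h3⟩
  · exact ⟨_, Or.inr h3⟩

theorem exists_rep_of : ∀ f : Ix, ∃ a ∈ reps, a.2 = f := by decide +kernel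

theorem reps_lt : ∀ a ∈ reps, a.1 < 1782 := by decide +kernel

theorem exists_fix (f : Ix) : ∃ p < 1782, φ (x f) p = p := by
  obtain ⟨a, ha, rfl⟩ := exists_rep_of f
  have hc := rchkL_spec reps_ok a ha
  simp only [rchk, Bool.and_eq_true] at hc
  exact ⟨a.1, reps_lt a ha, (rep_x a.2).pt hc.2.2⟩

theorem exists_sp {n : Suz} (hn : n ∈ NA) (f : Ix) : ∃ g, Sp n f g := by
  obtain ⟨p, hp, hf⟩ := exists_fix f
  have h1 : n * x f * n⁻¹ ∈ A0 := (hn _).1 (x_mem f)
  have h2 : n * x f * n⁻¹ ≠ 1 := by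
    intro h
    have h3 : x f = 1 := by
      have := conj_eq_one_iff.1 h
      exact this
    have h4 := orderOf_x f
    rw [h3, orderOf_one] at h4
    exact absurd h4 (by decide)
  have h5 : φ (n * x f * n⁻¹) (φ n p) = φ n p := by
    rw [map_mul, map_mul, map_inv, Equiv.Perm.mul_apply, Equiv.Perm.mul_apply]
    rw [show (φ n)⁻¹ (φ n p) = p by rw [Equiv.Perm.inv_eq_iff_eq], hf]
  exact fix_of_mem_A0 h1 h2 (φ_lt p hp) h5

theorem sp_unique {n : Suz} {f g g' : Ix} (h : Sp n f g) (h' : Sp n f g') : g = g' := by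
  apply Kernel.x_inj_zpowers
  rcases h with h | h <;> rcases h' with h' | h'
  · rw [← h, h']; exact Subgroup.mem_zpowers _
  · rw [← h, h']; exact Subgroup.inv_mem _ (Subgroup.mem_zpowers _)
  · rw [← inv_inv (x g), ← h, h']; exact Subgroup.inv_mem _ (Subgroup.mem_zpowers _)
  · rw [← inv_inv (x g), ← h, h', inv_inv]; exact Subgroup.mem_zpowers _

theorem sp_one (f : Ix) : Sp 1 f f := Or.inl (by simp)

theorem sp_mul {m n : Suz} {f g k : Ix} (hn : Sp n f g) (hm : Sp m g k) : Sp (m * n) f k := by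
  have e : m * n * x f * (m * n)⁻¹ = m * (n * x f * n⁻¹) * m⁻¹ := by group
  rw [Sp, e]
  rcases hn with hn | hn <;> rcases hm with hm | hm
  · left; rw [hn, hm]
  · right; rw [hn, hm]
  · right; rw [hn, ← hm]; group
  · left; rw [hn, ← inv_inv (x k), ← hm]; group

end Cfsg.Agent.SuzThree.NormElts
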