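import Cfsg.Agent.SuzThree.NormAct

/-!
A subgroup of order divisible by 3^7 in the normaliser of the first special subgroup, containing the elementary abelian
subgroup of order 3^5.
-/

set_option autoImplicit false
set_option maxRecDepth 100000

namespace Cfsg.Agent.SuzThree.SylowThree

open Cfsg.Spor Cfsg.Agent.SporadicRecognition.SuzPhi
  Cfsg.Agent.SporadicRecognition.SuzOrder
  Cfsg.Agent.SuzThree.Basic Cfsg.Agent.SuzThree.Elts
  Cfsg.Agent.SuzThree.Elementary Cfsg.Agent.SuzThree.NormElts Cfsg.Agent.SuzThree.NormAct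

/-- the stabiliser of two special subgroups in the normaliser -/
noncomputable def S : Subgroup NA := MulAction.stabilizer NA Ix.i0 ⊓ MulAction.stabilizer NA Ix.i1

theorem mem_S {n : NA} : n ∈ S ↔ n • Ix.i0 = Ix.i0 ∧ n • Ix.i1 = Ix.i1 := Iff.rfl

theorem orbit_i2 : MulAction.orbit S Ix.i2 = {f | f ≠ Ix.i0 ∧ f ≠ Ix.i1} := by
  ext f
  constructor
  · rintro ⟨s, rfl⟩
    have hs := mem_S.1 s.2
    constructor
    · intro h
      have h1 : (s : NA) • Ix.i2 = (s : NA) • Ix.i0 := h.trans hs.1.symm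
      exact absurd (smul_left_cancel _ h1) (by decide)
    · intro h
      have h1 : (s : NA) • Ix.i2 = (s : NA) • Ix.i1 := h.trans hs.2.symm
      exact absurd (smul_left_cancel _ h1) (by decide)
  · rintro ⟨h0, h1⟩
    obtain ⟨d, hd⟩ : ∃ d : Ix, [Ix.i0, Ix.i1, f, d].Nodup := by
      revert f
      decide +kernel
    obtain ⟨n, e0, e1, e2, -⟩ := exists_npr _ _ _ _ hd
    exact ⟨⟨n, mem_S.2 ⟨e0, e1⟩⟩, e2⟩

theorem card_orbit : (MulAction.orbit S Ix.i2).ncard = 9 := by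
  rw [orbit_i2]
  have : {f : Ix | f ≠ Ix.i0 ∧ f ≠ Ix.i1} =
      ((Finset.univ.filter fun f : Ix => f ≠ Ix.i0 ∧ f ≠ Ix.i1 : Finset Ix) : Set Ix) := by
    ext f; simp
  rw [this, Set.ncard_coe_finset]
  decide

/-- the same subgroup in the Suzuki group -/
noncomputable def K : Subgroup Suz := S.map NA.subtype

theorem mem_K {n : Suz} : n ∈ K ↔ ∃ h : n ∈ NA, (⟨n, h⟩ : NA) ∈ S := by
  constructor
  · rintro ⟨m, hm, rfl⟩; exact ⟨m.2, hm⟩
  · rintro ⟨h, hm⟩; exact ⟨⟨n, h⟩, hm, rfl⟩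

theorem card_dvd : 3 ^ 7 ∣ Nat.card K := by
  have h1 : Nat.card K = Nat.card S :=
    Nat.card_congr (S.equivMapOfInjective _ Subtype.val_injective).symm.toEquiv
  have h2 : Nat.card (MulAction.stabilizer S Ix.i2) * 9 = Nat.card S := by
    rw [← card_orbit, ← MulAction.index_stabilizer, Subgroup.card_mul_index]
  -- `A0` embeds in the stabiliser
  let H : Subgroup Suz := ((MulAction.stabilizer S Ix.i2).map S.subtype).map NA.subtype
  have h3 : Nat.card H = Nat.card (MulAction.stabilizer S Ix.i2) := by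
    rw [Nat.card_congr ((((MulAction.stabilizer S Ix.i2).map S.subtype).equivMapOfInjective
      NA.subtype Subtype.val_injective).symm.toEquiv),
      Nat.card_congr (((MulAction.stabilizer S Ix.i2).equivMapOfInjective
      S.subtype Subtype.val_injective).symm.toEquiv)]
  have h4 : A0 ≤ H := by
    intro a ha
    have han : a ∈ NA := Subgroup.le_normalizer ha
    have hS : (⟨a, han⟩ : NA) ∈ S := mem_S.2 ⟨A0_smul ha _, A0_smul ha _⟩
    exact ⟨⟨a, han⟩, ⟨⟨⟨a, han⟩, hS⟩, A0_smul (n := ⟨a, han⟩) ha Ix.i2, rfl⟩, rfl⟩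
  have h5 : 243 ∣ Nat.card H := by
    rw [← card_A0]; exact Subgroup.card_dvd_of_le h4
  rw [h1, ← h2, ← h3, show 3 ^ 7 = 243 * 9 by norm_num]
  exact Nat.mul_dvd_mul_right h5 9

theorem A0_le_K : A0 ≤ K := by
  intro a ha
  have han : a ∈ NA := Subgroup.le_normalizer ha
  exact mem_K.2 ⟨han, mem_S.2 ⟨A0_smul ha _, A0_smul ha _⟩⟩

theorem K_le : K ≤ Subgroup.normalizer ((Subgroup.zpowers (x .i0) : Subgroup Suz) : Set Suz) := by
  intro n hn
  obtain ⟨h, hS⟩ := mem_K.1 hn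
  have h1 := smul_spec ⟨n, h⟩ Ix.i0
  rw [(mem_S.1 hS).1] at h1
  apply Subgroup.mem_normalizer_fintype
  intro a ha
  have ha : a ∈ Subgroup.zpowers (x .i0) := ha
  show n * a * n⁻¹ ∈ Subgroup.zpowers (x .i0)
  obtain ⟨k, rfl⟩ := Subgroup.mem_zpowers_iff.1 ha
  rw [← conj_zpow]
  apply Subgroup.zpow_mem
  rcases h1 with h1 | h1
  · have h1 : n * x .i0 * n⁻¹ = x .i0 := h1
    rw [h1]; exact Subgroup.mem_zpowers _
  · have h1 : n * x .i0 * n⁻¹ = (x .i0)⁻¹ := h1
    rw [h1]; exact Subgroup.inv_mem _ (Subgroup.mem_zpowers _)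

theorem exists_P : ∃ P : Subgroup Suz, IsPGroup 3 P ∧ 3 ^ 7 ∣ Nat.card P ∧ A0 ≤ P ∧
    P ≤ Subgroup.normalizer ((Subgroup.zpowers (x .i0) : Subgroup Suz) : Set Suz) := by
  have h3 : Fact (Nat.Prime 3) := ⟨Nat.prime_three⟩
  have hA : IsPGroup 3 A0 := by
    rw [IsPGroup.iff_card]; exact ⟨5, card_A0⟩
  have hA' : IsPGroup 3 (A0.subgroupOf K) :=
    hA.comap_of_injective K.subtype Subtype.val_injective
  obtain ⟨Q, hQ⟩ := hA'.exists_le_sylow
  refine ⟨(Q : Subgroup K).map K.subtype, Q.isPGroup'.map _, ?_, ?_, ?_⟩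
  · rw [Nat.card_congr ((Q : Subgroup K).equivMapOfInjective _ Subtype.val_injective).symm.toEquiv]
    exact Q.pow_dvd_card_of_pow_dvd_card card_dvd
  · intro a ha
    exact ⟨⟨a, A0_le_K ha⟩, hQ (Subgroup.mem_subgroupOf.2 ha), rfl⟩
  · exact (Subgroup.map_subtype_le _).trans K_le

end Cfsg.Agent.SuzThree.SylowThree
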