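import Cfsg.Agent.SuzThree.QZero

/-!
A Sylow 3-subgroup of the centraliser of the involution `a` in the presented Suzuki group (the wreath product of two
groups of order 3), and the action of its elements of order 3 on the normal 2-subgroup `Q0`.
-/

set_option autoImplicit false
set_option maxRecDepth 100000
set_option exponentiation.threshold 4000

namespace Cfsg.Agent.SuzThree.ThreeWr

open Cfsg.Spor Cfsg.Agent.Lib.PermNet Cfsg.Agent.Lib.PermNetOrbit Cfsg.Agent.SporadicRecognition.SuzPhi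
  Cfsg.Agent.SporadicRecognition.SuzBound Cfsg.Agent.SporadicRecognition.SuzOrder
  Cfsg.Agent.SuzThree.Nets Cfsg.Agent.SuzThree.Basic Cfsg.Agent.SuzThree.Elts
  Cfsg.Agent.SuzThree.Elementary Cfsg.Agent.SuzThree.CentA Cfsg.Agent.SuzThree.CentB
  Cfsg.Agent.SuzThree.QZero

/-- word of the wreathing element -/
def ww : List Suz.Gen :=
  [.b, .c, .g, .b, .a, .b, .c, .e, .d, .c, .b, .a, .b, .g, .f, .b, .a, .b, .f, .a, .b, .a, .b, .d, .c, .d, .b, .c, .a, .b, .e, .d, .c, .b, .a, .b, .d, .c, .d, .b, .c, .a, .b, .a, .b, .e, .d, .c]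

/-- the wreathing element -/
noncomputable def w : Suz := el ww

theorem wN_ok : WOk (2 ^ 11) [wN] := WOk.cons (by decide +kernel) (WOk.nil _)
theorem y1N_ok : WOk (2 ^ 11) [y1N] := WOk.cons (by decide +kernel) (WOk.nil _)
theorem y2N_ok : WOk (2 ^ 11) [y2N] := WOk.cons (by decide +kernel) (WOk.nil _)

theorem rep_w : Rep w [wN] :=
  ⟨wN_ok, by rw [w, φ_el]; exact wperm_eq_of_checkEq (wd_ok _) wN_ok (by decide +kernel)⟩

theorem w_cube : w * w * w = 1 :=
  eq_of_reps ((rep_w.mul rep_w).mul rep_w) Rep.one (by decide +kernel)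

theorem w_inv : w⁻¹ = w * w := (eq_inv_of_mul_eq_one_left w_cube).symm

theorem rep_winv : Rep w⁻¹ [wN, wN] := by rw [w_inv]; exact rep_w.mul rep_w

/-- the three commuting elements -/
noncomputable def y0 : Suz := x .i0
/-- the three commuting elements -/
noncomputable def y1 : Suz := w * y0 * w⁻¹
/-- the three commuting elements -/
noncomputable def y2 : Suz := w * y1 * w⁻¹

theorem rep_y0 : Rep y0 [x0N] := rep_x .i0

theorem rep_y1 : Rep y1 [y1N] := by
  refine ⟨y1N_ok, ?_⟩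
  have h := (rep_w.mul rep_y0).mul rep_winv
  rw [y1, h.eq]
  exact wperm_eq_of_checkEq h.ok y1N_ok (by decide +kernel)

theorem rep_y2 : Rep y2 [y2N] := by
  refine ⟨y2N_ok, ?_⟩
  have h := (rep_w.mul rep_y1).mul rep_winv
  rw [y2, h.eq]
  exact wperm_eq_of_checkEq h.ok y2N_ok (by decide +kernel)

theorem wy0 : w * y0 = y1 * w := by rw [y1]; group
theorem wy1 : w * y1 = y2 * w := by rw [y2]; group
theorem wy2 : w * y2 = y0 * w :=
  eq_of_reps (rep_w.mul rep_y2) (rep_y0.mul rep_w) (by decide +kernel)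

theorem c01 : y0 * y1 = y1 * y0 :=
  eq_of_reps (rep_y0.mul rep_y1) (rep_y1.mul rep_y0) (by decide +kernel)
theorem c12 : y1 * y2 = y2 * y1 :=
  eq_of_reps (rep_y1.mul rep_y2) (rep_y2.mul rep_y1) (by decide +kernel)
theorem c02 : y0 * y2 = y2 * y0 :=
  eq_of_reps (rep_y0.mul rep_y2) (rep_y2.mul rep_y0) (by decide +kernel)

theorem y0_cube : y0 ^ 3 = 1 := cube_A0 (x_mem .i0)
theorem y1_cube : y1 ^ 3 = 1 := by
  rw [y1, conj_pow, y0_cube, mul_one, mul_inv_cancel]
theorem y2_cube : y2 ^ 3 = 1 := by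
  rw [y2, conj_pow, y1_cube, mul_one, mul_inv_cancel]
theorem w_cube' : w ^ 3 = 1 := by rw [pow_succ, pow_two]; exact w_cube

theorem y0_mem_C1 : y0 ∈ C1 := x0_mem_C1
theorem w_mem_C1 : w ∈ C1 := by
  rw [mem_C1]
  exact eq_of_reps (rep_w.mul rep_z) (rep_z.mul rep_w) (by decide +kernel)

/-- normal form -/
noncomputable def Pr (i j k l : ℕ) : Suz := y0 ^ i * y1 ^ j * y2 ^ k * w ^ l

theorem Pr_mul_w (i j k l : ℕ) : Pr i j k l * w = Pr i j k (l + 1) := by
  rw [Pr, Pr, pow_succ]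
  simp only [mul_assoc]

theorem pow_w_mul (l : ℕ) : ∃ u, (u = y0 ∨ u = y1 ∨ u = y2) ∧ w ^ l * y0 = u * w ^ l := by
  induction l with
  | zero => exact ⟨y0, Or.inl rfl, by simp⟩
  | succ l ih =>
    obtain ⟨u, hu, h⟩ := ih
    rcases hu with rfl | rfl | rfl
    · refine ⟨y1, Or.inr (Or.inl rfl), ?_⟩
      rw [pow_succ', mul_assoc, h, ← mul_assoc, wy0, mul_assoc]
    · refine ⟨y2, Or.inr (Or.inr rfl), ?_⟩
      rw [pow_succ', mul_assoc, h, ← mul_assoc, wy1, mul_assoc]
    · refine ⟨y0, Or.inl rfl, ?_⟩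
      rw [pow_succ', mul_assoc, h, ← mul_assoc, wy2, mul_assoc]

theorem Pr_mul_y0 (i j k l : ℕ) : ∃ i' j' k', Pr i j k l * y0 = Pr i' j' k' l := by
  obtain ⟨u, hu, h⟩ := pow_w_mul l
  have c1 : Commute y0 y1 := c01
  have c2 : Commute y1 y2 := c12
  have c3 : Commute y0 y2 := c02
  rcases hu with rfl | rfl | rfl
  · refine ⟨i + 1, j, k, ?_⟩
    rw [Pr, mul_assoc, h, Pr, pow_succ]
    have h1 : y2 ^ k * y0 = y0 * y2 ^ k := (c3.pow_right k).symm
    have h2 : y1 ^ j * y0 = y0 * y1 ^ j := (c1.pow_right j).symm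
    calc y0 ^ i * y1 ^ j * y2 ^ k * (y0 * w ^ l)
        = y0 ^ i * y1 ^ j * (y2 ^ k * y0) * w ^ l := by group
      _ = y0 ^ i * (y1 ^ j * y0) * y2 ^ k * w ^ l := by rw [h1]; group
      _ = y0 ^ i * y0 * y1 ^ j * y2 ^ k * w ^ l := by rw [h2]; group
  · refine ⟨i, j + 1, k, ?_⟩
    rw [Pr, mul_assoc, h, Pr, pow_succ]
    have h1 : y2 ^ k * y1 = y1 * y2 ^ k := (c2.pow_right k).symm
    calc y0 ^ i * y1 ^ j * y2 ^ k * (y1 * w ^ l)
        = y0 ^ i * y1 ^ j * (y2 ^ k * y1) * w ^ l := by group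
      _ = y0 ^ i * (y1 ^ j * y1) * y2 ^ k * w ^ l := by rw [h1]; group
  · refine ⟨i, j, k + 1, ?_⟩
    rw [Pr, mul_assoc, h, Pr, pow_succ]
    group

/-- the Sylow 3-subgroup -/
noncomputable def S3 : Subgroup Suz := Subgroup.closure {y0, w}

theorem inv_pow_two {g : Suz} (h : g ^ 3 = 1) : g⁻¹ = g * g := by
  rw [inv_eq_iff_mul_eq_one, ← h, pow_succ, pow_two]; group

theorem exists_Pr {s : Suz} (hs : s ∈ S3) : ∃ i j k l, s = Pr i j k l := by
  induction hs using Subgroup.closure_induction_right with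
  | one => exact ⟨0, 0, 0, 0, by simp [Pr]⟩
  | mul_right a _ b hb ih =>
    obtain ⟨i, j, k, l, rfl⟩ := ih
    rcases hb with rfl | hb
    · obtain ⟨i', j', k', h⟩ := Pr_mul_y0 i j k l
      exact ⟨i', j', k', l, h⟩
    · have hb : b = w := hb
      subst hb
      exact ⟨i, j, k, l + 1, Pr_mul_w _ _ _ _⟩
  | mul_inv_cancel a _ b hb ih =>
    obtain ⟨i, j, k, l, rfl⟩ := ih
    rcases hb with rfl | hb
    · obtain ⟨i', j', k', h⟩ := Pr_mul_y0 i j k l
      obtain ⟨i'', j'', k'', h'⟩ := Pr_mul_y0 i' j' k' l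
      exact ⟨i'', j'', k'', l, by rw [inv_pow_two y0_cube, ← mul_assoc, h, h']⟩
    · have hb : b = w := hb
      subst hb
      exact ⟨i, j, k, l + 1 + 1, by rw [w_inv, ← mul_assoc, Pr_mul_w, Pr_mul_w]⟩

theorem Pr_mod (i j k l : ℕ) : Pr i j k l = Pr (i % 3) (j % 3) (k % 3) (l % 3) := by
  rw [Pr, Pr, ← pow_eq_pow_mod i y0_cube, ← pow_eq_pow_mod j y1_cube, ← pow_eq_pow_mod k y2_cube,
    ← pow_eq_pow_mod l w_cube']

theorem S3_le : S3 ≤ C1 := by
  rw [S3, Subgroup.closure_le]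
  rintro y (rfl | hy)
  · exact y0_mem_C1
  · have hy : y = w := hy
    rw [hy]; exact w_mem_C1

theorem y1_mem : y1 ∈ S3 := S3.mul_mem (S3.mul_mem (Subgroup.subset_closure (by simp))
  (Subgroup.subset_closure (by simp))) (S3.inv_mem (Subgroup.subset_closure (by simp)))
theorem y2_mem : y2 ∈ S3 := S3.mul_mem (S3.mul_mem (Subgroup.subset_closure (by simp))
  y1_mem) (S3.inv_mem (Subgroup.subset_closure (by simp)))
theorem y0_mem : y0 ∈ S3 := Subgroup.subset_closure (by simp)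
theorem w_mem : w ∈ S3 := Subgroup.subset_closure (by simp)

/-! ### The order -/

theorem card_S3_le : Nat.card S3 ≤ 81 := by
  have h : Function.Surjective (fun t : Fin 3 × Fin 3 × Fin 3 × Fin 3 =>
      (⟨Pr t.1 t.2.1 t.2.2.1 t.2.2.2, S3.mul_mem (S3.mul_mem (S3.mul_mem (S3.pow_mem y0_mem _)
        (S3.pow_mem y1_mem _)) (S3.pow_mem y2_mem _)) (S3.pow_mem w_mem _)⟩ : S3)) := by
    rintro ⟨s, hs⟩
    obtain ⟨i, j, k, l, rfl⟩ := exists_Pr hs
    refine ⟨(⟨i % 3, Nat.mod_lt _ (by norm_num)⟩, ⟨j % 3, Nat.mod_lt _ (by norm_num)⟩,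
      ⟨k % 3, Nat.mod_lt _ (by norm_num)⟩, ⟨l % 3, Nat.mod_lt _ (by norm_num)⟩), ?_⟩
    apply Subtype.ext
    exact (Pr_mod i j k l).symm
  have h1 := Nat.card_le_card_of_surjective _ h
  have h2 : Nat.card (Fin 3 × Fin 3 × Fin 3 × Fin 3) = 81 := by
    simp [Nat.card_eq_fintype_card]
  rw [h2] at h1
  exact h1

/-- generators as words -/
noncomputable def sws : List (List Net) := [[x0N], [y1N], [y2N], [wN]]

theorem card_S3_ge : 81 ≤ Nat.card S3 := by
  have h1 : 81 * Nat.card (stabL (φS S3) [14]) ≤ Nat.card (stabL (φS S3) []) :=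
    stabL_step_of_check (φS S3) (k := 11) (ws := sws) [] 14 81 2 (by
      intro v hv
      simp only [sws, List.mem_cons, List.not_mem_nil, or_false] at hv
      rcases hv with rfl | rfl | rfl | rfl
      · exact rep_y0.ok
      · exact rep_y1.ok
      · exact rep_y2.ok
      · exact rep_w.ok) (by
      intro v hv
      simp only [sws, List.mem_cons, List.not_mem_nil, or_false] at hv
      rcases hv with rfl | rfl | rfl | rfl
      · exact ⟨⟨_, y0_mem⟩, rep_y0.eq⟩
      · exact ⟨⟨_, y1_mem⟩, rep_y1.eq⟩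
      · exact ⟨⟨_, y2_mem⟩, rep_y2.eq⟩
      · exact ⟨⟨_, w_mem⟩, rep_w.eq⟩) (by decide +kernel) (by decide +kernel) (by decide +kernel)
  have h2 : 0 < Nat.card (stabL (φS S3) [14]) := Nat.card_pos
  have h0 : Nat.card (stabL (φS S3) []) ≤ Nat.card S3 :=
    Nat.card_le_card_of_injective _ (Subtype.val_injective)
  omega

theorem card_S3 : Nat.card S3 = 81 := le_antisymm card_S3_le card_S3_ge

/-! ### Commutators with `Q0` -/

/-- networks of the normal form -/
noncomputable def prn (i j k l : ℕ) : List Net :=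
  List.replicate i x0N ++ List.replicate j y1N ++ List.replicate k y2N ++ List.replicate l wN

theorem rep_Pr (i j k l : ℕ) : Rep (Pr i j k l) (prn i j k l) :=
  (((rep_pow rep_y0 i).mul (rep_pow rep_y1 j)).mul (rep_pow rep_y2 k)).mul (rep_pow rep_w l)

/-- networks of the inverse -/
noncomputable def prni (i j k l : ℕ) : List Net :=
  List.replicate (2 * l) wN ++ (List.replicate (2 * k) y2N ++ (List.replicate (2 * j) y1N ++
    List.replicate (2 * i) x0N))

theorem inv_pow_eq {g : Suz} (h : g ^ 3 = 1) (n : ℕ) : (g ^ n)⁻¹ = g ^ (2 * n) := by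
  rw [inv_eq_iff_mul_eq_one, ← pow_add, show n + 2 * n = 3 * n by ring, pow_mul, h, one_pow]

theorem rep_Pr_inv (i j k l : ℕ) : Rep (Pr i j k l)⁻¹ (prni i j k l) := by
  rw [Pr, mul_inv_rev, mul_inv_rev, mul_inv_rev, inv_pow_eq y0_cube, inv_pow_eq y1_cube,
    inv_pow_eq y2_cube, inv_pow_eq w_cube']
  exact (rep_pow rep_w _).mul ((rep_pow rep_y2 _).mul ((rep_pow rep_y1 _).mul (rep_pow rep_y0 _)))

/-- commutators of the generators of `Q0` with an element of normal form -/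
noncomputable def cws (i j k l : ℕ) : List (List Net) :=
  ql.map fun m => qn m ++ prn i j k l ++ qn m ++ prni i j k l

theorem rep_comm (m : Qx) (i j k l : ℕ) :
    Rep (q m * Pr i j k l * (q m)⁻¹ * (Pr i j k l)⁻¹) (qn m ++ prn i j k l ++ qn m ++ prni i j k l) := by
  have h : (q m)⁻¹ = q m := inv_eq_of_mul_eq_one_right (q_sq m)
  rw [h]
  exact (((rep_q m).mul (rep_Pr _ _ _ _)).mul (rep_q m)).mul (rep_Pr_inv _ _ _ _)

/-- the test -/
noncomputable def chk (i j k l : ℕ) : Bool :=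
  or (not (Nat.beq (appWord (prn i j k l ++ prn i j k l ++ prn i j k l) (Nat.pow 2 0)) (Nat.pow 2 0)))
    (and (Nat.ble 9 (pc 11 (sat (cws i j k l) 1 (Nat.pow 2 98))))
      (Nat.beq (Nat.shiftRight (sat (cws i j k l) 1 (Nat.pow 2 98)) (Nat.pow 2 11)) 0))

theorem of_chk {i j k l : ℕ} (h : chk i j k l = true) (h3 : Pr i j k l ^ 3 = 1) (D : Subgroup Suz)
    (hD : ∀ m, q m * Pr i j k l * (q m)⁻¹ * (Pr i j k l)⁻¹ ∈ D) : 9 ≤ Nat.card D := by
  rw [chk, Bool.or_eq_true, Bool.and_eq_true] at h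
  rcases h with h | ⟨h, h'⟩
  · exfalso
    have h1 : mv (prn i j k l ++ prn i j k l ++ prn i j k l) 0 0 = true := by
      have hr := ((rep_Pr i j k l).mul (rep_Pr i j k l)).mul (rep_Pr i j k l)
      have h2 : wperm (prn i j k l ++ prn i j k l ++ prn i j k l) = 1 := by
        rw [← hr.eq, ← pow_two, ← pow_succ, h3, map_one]
      have h4 : appWord (prn i j k l ++ prn i j k l ++ prn i j k l) (2 ^ 0) = 2 ^ 0 := by
        apply Nat.eq_of_testBit_eq
        intro p
        rw [testBit_appWord hr.ok, h2]; rfl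
      show Nat.beq _ _ = true
      rw [show appWord (prn i j k l ++ prn i j k l ++ prn i j k l) (Nat.pow 2 0) = Nat.pow 2 0 from h4]
      exact Nat.beq_refl _
    have h2 : Nat.beq (appWord (prn i j k l ++ prn i j k l ++ prn i j k l) (Nat.pow 2 0))
      (Nat.pow 2 0) = true := h1
    rw [h2] at h
    exact absurd h (by simp)
  · have h1 : 9 * Nat.card (stabL (φS D) [98]) ≤ Nat.card (stabL (φS D) []) :=
      stabL_step_of_check (φS D) (k := 11) (ws := cws i j k l) [] 98 9 1 (by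
        intro v hv
        obtain ⟨m, _, rfl⟩ := List.mem_map.1 hv
        exact (rep_comm m i j k l).ok) (by
        intro v hv
        obtain ⟨m, _, rfl⟩ := List.mem_map.1 hv
        exact ⟨⟨_, hD m⟩, (rep_comm m i j k l).eq⟩) (by rfl) h h'
    have h2 : 0 < Nat.card (stabL (φS D) [98]) := Nat.card_pos
    have h0 : Nat.card (stabL (φS D) []) ≤ Nat.card D :=
      Nat.card_le_card_of_injective _ (Subtype.val_injective)
    omega

end Cfsg.Agent.SuzThree.ThreeWr
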