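import Cfsg.Agent.SuzThree.GoodX
import Cfsg.Agent.SuzThree.SylowThree
import Cfsg.Agent.TwoFusion.FStarControl
import Cfsg.Agent.Lib.Cores
import Cfsg.Agent.S0288
import Cfsg.Prelude.Def_Local

/-!
Transport of the facts about the presented Suzuki group to a group isomorphic to it with the large-extraspecial
hypothesis.
-/

set_option autoImplicit false
set_option maxRecDepth 100000
set_option exponentiation.threshold 4000

open scoped Pointwise

namespace Cfsg.Agent.SuzThree.Transport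

open Cfsg.Spor Cfsg.Agent.SporadicRecognition.SuzOrder
  Cfsg.Agent.SuzThree.Basic Cfsg.Agent.SuzThree.Elts
  Cfsg.Agent.SuzThree.Elementary Cfsg.Agent.SuzThree.CentA Cfsg.Agent.SuzThree.CentB
  Cfsg.Agent.SuzThree.QZero

theorem card_Omega_dvd :
    Nat.card (Cfsg.Omega (ZMod 2) (Cfsg.quadFormMinus 2 (ZMod 2) 1 1)) ∣ 51840 := by
  have h := Cfsg.Agent.S0288.result (F := ZMod 2) (q := 2) (ZMod.card 2) 3 (by norm_num) 1 1
    (by decide)
  have h1 : Nat.card (Cfsg.isometryGroup (ZMod 2) (Cfsg.quadFormMinus 2 (ZMod 2) 1 1)) = 51840 := by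
    rw [show (3 - 1 : ℕ) = 2 from rfl] at h
    rw [h]
    norm_num [Finset.prod_range_succ]
  rw [← h1]
  exact Subgroup.card_subgroup_dvd_card _

theorem z0_ne : z0 ≠ 1 := by
  intro h
  have h1 : Cfsg.Agent.SporadicRecognition.SuzPhi.φ z0 2 = 2 := by rw [h, map_one]; rfl
  have h2 : Cfsg.Agent.SporadicRecognition.SuzPhi.φ z0 2 = 3 := (Rep.el [.a]).pt (by decide +kernel)
  rw [h1] at h2
  exact absurd h2 (by decide)

theorem orderOf_z0 : orderOf z0 = 2 := orderOf_eq_prime (by rw [pow_two]; exact z_sq) z0_ne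

/-- A Sylow 2-subgroup of the Suzuki group inside the centraliser of `z0` and containing `z0`. -/
theorem exists_T0 : ∃ T : Subgroup Suz, IsPGroup 2 T ∧ Nat.card T = 2 ^ 13 ∧ T ≤ C1 ∧ z0 ∈ T := by
  have hF : Fact (Nat.Prime 2) := ⟨Nat.prime_two⟩
  have hz : z0 ∈ C1 := mem_C1.2 rfl
  have hp : IsPGroup 2 (Subgroup.zpowers (⟨z0, hz⟩ : C1)) := by
    rw [IsPGroup.iff_card]
    refine ⟨1, ?_⟩
    rw [Nat.card_zpowers, Subgroup.orderOf_mk, orderOf_z0, pow_one]
  obtain ⟨P, hP⟩ := hp.exists_le_sylow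
  have hPG : IsPGroup 2 ((P : Subgroup C1).map C1.subtype) := P.isPGroup'.map _
  have hcard : Nat.card ((P : Subgroup C1).map C1.subtype) = Nat.card P :=
    Nat.card_congr ((P : Subgroup C1).equivMapOfInjective _ Subtype.val_injective).symm.toEquiv
  refine ⟨(P : Subgroup C1).map C1.subtype, hPG, ?_, Subgroup.map_subtype_le _, ?_⟩
  · apply Nat.dvd_antisymm
    · obtain ⟨n, hn⟩ := (IsPGroup.iff_card).1 hPG
      have h1 : 2 ^ n ∣ 448345497600 := by
        rw [← hn, ← card_Suz]; exact Subgroup.card_subgroup_dvd_card _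
      rw [hn]
      have h2 : n ≤ 13 := by
        by_contra hc
        have h3 : 2 ^ 14 ∣ 448345497600 := (Nat.pow_dvd_pow 2 (by omega)).trans h1
        exact absurd h3 (by norm_num)
      exact Nat.pow_dvd_pow 2 h2
    · rw [hcard]
      apply P.pow_dvd_card_of_pow_dvd_card
      exact Dvd.dvd.trans (by norm_num) dvd_card_C1
  · exact ⟨⟨z0, hz⟩, hP (Subgroup.mem_zpowers _), rfl⟩

variable {G : Type*} [Group G] [Finite G]

/-- The centraliser of `Q` in `C` has order 2. -/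
theorem eq_of_centralizes {C : Type*} [Group C] [Finite C] {Q : Subgroup C}
    (hF : Cfsg.generalizedFittingSubgroup C = Q) (hQ : Cfsg.IsExtraspecial 2 Q) {z c : C}
    (hz : z ≠ 1) (hzc : ∀ q ∈ Q, z * q = q * z) (hc1 : c ≠ 1) (hc : ∀ q ∈ Q, c * q = q * c) :
    c = z := by
  have hle : Subgroup.centralizer (Q : Set C) ≤ Q := by
    have h1 := Cfsg.Agent.TwoFusion.FStarControl.centralizer_genFitting_le_fitting (H := C)
    rw [hF] at h1
    refine h1.trans ?_
    rw [← hF]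
    exact le_sup_right
  have key : ∀ {c : C}, (∀ q ∈ Q, c * q = q * c) → ∃ h : c ∈ Q, (⟨c, h⟩ : Q) ∈ Subgroup.center Q := by
    intro c hc
    have h1 : c ∈ Q := hle (Subgroup.mem_centralizer_iff.2 fun q hq => (hc q hq).symm)
    refine ⟨h1, Subgroup.mem_center_iff.2 ?_⟩
    intro q
    exact Subtype.ext (hc q q.2).symm
  obtain ⟨h1, h2⟩ := key hzc
  obtain ⟨h3, h4⟩ := key hc
  have h5 : Nat.card (Subgroup.center Q) = 2 := hQ.2
  obtain ⟨y, hy, huniq⟩ := (Nat.card_eq_two_iff' (1 : Subgroup.center Q)).1 h5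
  have h6 : (⟨⟨z, h1⟩, h2⟩ : Subgroup.center Q) = y := huniq _ (by
    intro h; exact hz (congrArg (fun t : Subgroup.center Q => ((t : Q) : C)) h))
  have h7 : (⟨⟨c, h3⟩, h4⟩ : Subgroup.center Q) = y := huniq _ (by
    intro h; exact hc1 (congrArg (fun t : Subgroup.center Q => ((t : Q) : C)) h))
  exact congrArg (fun t : Subgroup.center Q => ((t : Q) : C)) (h7.trans h6.symm)

/-- The isomorphism can be chosen to map `z` to `z0`. -/
theorem exists_iso (z : G) (hz : orderOf z = 2)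
    (Q : Subgroup (Subgroup.centralizer ({z} : Set G))) [Q.Normal]
    (hF : Cfsg.generalizedFittingSubgroup (Subgroup.centralizer ({z} : Set G)) = Q)
    (hQ : Cfsg.IsExtraspecial 2 Q) (ψ : G ≃* Suz) : ∃ χ : G ≃* Suz, χ z = z0 := by
  have h2 : Fact (Nat.Prime 2) := ⟨Nat.prime_two⟩
  have hz1 : z ≠ 1 := by rintro rfl; rw [orderOf_one] at hz; exact absurd hz (by norm_num)
  have hzC : z ∈ Subgroup.centralizer ({z} : Set G) := Subgroup.mem_centralizer_singleton_iff.2 rfl
  -- a Sylow 2-subgroup containing Q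
  have hQp : IsPGroup 2 (Q.map (Subgroup.centralizer ({z} : Set G)).subtype) := hQ.1.1.map _
  obtain ⟨T, hT⟩ := hQp.exists_le_sylow
  have hcen : ∀ q ∈ Q, (⟨z, hzC⟩ : Subgroup.centralizer ({z} : Set G)) * q = q * ⟨z, hzC⟩ := by
    intro q _
    exact Subtype.ext (Subgroup.mem_centralizer_singleton_iff.1 q.2).symm
  have hzQ : (⟨z, hzC⟩ : Subgroup.centralizer ({z} : Set G)) ∈ Q := by
    have h1 := Cfsg.Agent.TwoFusion.FStarControl.centralizer_genFitting_le_fitting
      (H := Subgroup.centralizer ({z} : Set G))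
    rw [hF] at h1
    have h3 : Cfsg.fittingSubgroup (Subgroup.centralizer ({z} : Set G)) ≤ Q := by
      rw [← hF]; exact le_sup_right
    exact h3 (h1 (Subgroup.mem_centralizer_iff.2 fun q hq => (hcen q hq).symm))
  have hzT : z ∈ (T : Subgroup G) := hT ⟨_, hzQ, rfl⟩
  -- uniqueness
  have huniq : ∀ t : G, t ≠ 1 → (∀ u ∈ (T : Subgroup G), t * u = u * t) → t = z := by
    intro t ht1 ht
    have htC : t ∈ Subgroup.centralizer ({z} : Set G) :=
      Subgroup.mem_centralizer_singleton_iff.2 (ht z hzT)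
    have h3 := eq_of_centralizes hF hQ (z := ⟨z, hzC⟩) (c := ⟨t, htC⟩)
      (fun h => hz1 (congrArg Subtype.val h)) hcen (fun h => ht1 (congrArg Subtype.val h))
      (fun q hq => Subtype.ext (ht q (hT ⟨q, hq, rfl⟩)))
    exact congrArg Subtype.val h3
  -- the Sylow subgroup of Suz
  obtain ⟨T0, hT0p, hT0c, hT0le, hz0T0⟩ := exists_T0
  have hTp : IsPGroup 2 (T0.map ψ.symm.toMonoidHom) := hT0p.map _
  obtain ⟨T', hT'⟩ := hTp.exists_le_sylow
  obtain ⟨g, hg⟩ := MulAction.exists_smul_eq G T' T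
  have hcG : Nat.card G = 448345497600 := by rw [Nat.card_congr ψ.toEquiv, card_Suz]
  have hcT : Nat.card T' = 2 ^ 13 := by
    apply Nat.dvd_antisymm
    · obtain ⟨n, hn⟩ := (IsPGroup.iff_card).1 T'.isPGroup'
      have h1 : 2 ^ n ∣ 448345497600 := by
        rw [← hn, ← hcG]; exact Subgroup.card_subgroup_dvd_card _
      rw [hn]
      have h2 : n ≤ 13 := by
        by_contra hc
        have h3 : 2 ^ 14 ∣ 448345497600 := (Nat.pow_dvd_pow 2 (by omega)).trans h1
        exact absurd h3 (by norm_num)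
      exact Nat.pow_dvd_pow 2 h2
    · apply T'.pow_dvd_card_of_pow_dvd_card
      rw [hcG]; norm_num
  have hTeq : T0.map ψ.symm.toMonoidHom = (T' : Subgroup G) := by
    apply Subgroup.eq_of_le_of_card_ge hT'
    rw [Nat.card_congr (T0.equivMapOfInjective ψ.symm.toMonoidHom ψ.symm.injective).symm.toEquiv,
      hT0c]
    exact hcT.le
  have hmem : ∀ u ∈ (T : Subgroup G), ∃ v ∈ T0, u = g * ψ.symm v * g⁻¹ := by
    intro u hu
    rw [← hg] at hu
    obtain ⟨v, hv, hvu⟩ := Set.mem_smul_set.1 (show u ∈ (MulAut.conj g) • ((T' : Subgroup G) : Set G)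
      from hu)
    have hv' : v ∈ (T' : Subgroup G) := hv
    rw [← hTeq] at hv'
    obtain ⟨v0, hv0, rfl⟩ := hv'
    exact ⟨v0, hv0, hvu.symm⟩
  have h5 : g * ψ.symm z0 * g⁻¹ = z := by
    apply huniq
    · intro h
      have h6 : ψ.symm z0 = 1 := conj_eq_one_iff.1 h
      have h7 : z0 = 1 := by
        have := congrArg ψ h6
        rwa [MulEquiv.apply_symm_apply, map_one] at this
      exact z0_ne h7
    · intro u hu
      obtain ⟨v, hv, rfl⟩ := hmem u hu
      have h6 : z0 * v = v * z0 := (mem_C1.1 (hT0le hv)).symm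
      have h7 : ψ.symm z0 * ψ.symm v = ψ.symm v * ψ.symm z0 := by rw [← map_mul, h6, map_mul]
      calc g * ψ.symm z0 * g⁻¹ * (g * ψ.symm v * g⁻¹) = g * (ψ.symm z0 * ψ.symm v) * g⁻¹ := by group
        _ = g * (ψ.symm v * ψ.symm z0) * g⁻¹ := by rw [h7]
        _ = g * ψ.symm v * g⁻¹ * (g * ψ.symm z0 * g⁻¹) := by group
  refine ⟨(MulAut.conj g⁻¹).trans ψ, ?_⟩
  show ψ (g⁻¹ * z * g⁻¹⁻¹) = z0
  rw [← h5]
  have : g⁻¹ * (g * ψ.symm z0 * g⁻¹) * g⁻¹⁻¹ = ψ.symm z0 := by group
  rw [this, MulEquiv.apply_symm_apply]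

end Cfsg.Agent.SuzThree.Transport
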